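import Cfsg.Agent.LargeExtra.FourGroup
import Cfsg.Agent.Layer.FStar

/-!
# Tools for passing large extraspecial subgroups to quotients of centralisers
-/

set_option autoImplicit false

open Cfsg Subgroup
open scoped commutatorElement

namespace Cfsg.Agent.LargeExtra

/-- A criterion for being extraspecial. -/
theorem extraspecial_of {P : Type*} [Group P] [Finite P] (hp : IsPGroup 2 P) {w : P}
    (hw : w ≠ 1) (hw2 : w * w = 1) (hwc : w ∈ center P)
    (hcen : ∀ c ∈ center P, c = 1 ∨ c = w)
    (hcomm : ∀ a b : P, ⁅a, b⁆ = 1 ∨ ⁅a, b⁆ = w) (hsq : ∀ a : P, a * a = 1 ∨ a * a = w)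
    (hne : ∃ a b : P, a * b ≠ b * a) : IsExtraspecial 2 P := by
  have : Fact (Nat.Prime 2) := ⟨Nat.prime_two⟩
  have hcard : center P = zpowers w := by
    refine le_antisymm (fun c hc => ?_) (zpowers_le.2 hwc)
    rcases hcen c hc with rfl | rfl
    exacts [one_mem _, mem_zpowers _]
  have hcom : commutator P = center P := by
    refine le_antisymm ?_ ?_
    · rw [commutator_def, commutator_le]
      intro a _ b _
      rcases hcomm a b with e | e <;> rw [e]
      exacts [one_mem _, hwc]
    · rw [hcard, zpowers_le]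
      obtain ⟨a, b, hab⟩ := hne
      rcases hcomm a b with e | e
      · exact absurd (commutatorElement_eq_one_iff_mul_comm.1 e) hab
      · rw [← e]; exact commutator_mem_commutator (mem_top a) (mem_top b)
  refine ⟨⟨hp, ?_, hcom⟩, ?_⟩
  · have := hp.isNilpotent
    refine le_antisymm ?_ (hcom ▸ Core.commutator_le_frattini)
    intro x hx
    by_contra hxc
    -- a maximal subgroup containing the centre but not `x`
    obtain ⟨M, -, ⟨hZM, hxM⟩, hmax⟩ := Finite.exists_le_maximal
      (p := fun M : Subgroup P => center P ≤ M ∧ x ∉ M) ⟨le_rfl, hxc⟩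
    refine hxM ((frattini_le_coatom (K := M) ?_) hx)
    have hMn : M.Normal := Subgroup.Normal.of_commutator_le P (hcom.le.trans hZM)
    refine ⟨fun h => hxM (h ▸ mem_top x), fun K hK => ?_⟩
    have hxK : x ∈ K := by
      by_contra hxK
      exact hK.not_ge (hmax ⟨hZM.trans hK.le, hxK⟩ hK.le)
    refine eq_top_iff.2 fun v _ => ?_
    by_cases hv : v ∈ M
    · exact hK.le hv
    have hxs : x ∈ M ⊔ zpowers v := by
      by_contra hxs
      exact hv (hmax ⟨hZM.trans le_sup_left, hxs⟩ le_sup_left
        (le_sup_right (a := M) (mem_zpowers v)))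
    obtain ⟨m, hm, u, hu, hmu⟩ := mem_sup_of_normal_left.1 hxs
    obtain ⟨k, rfl⟩ := mem_zpowers_iff.1 hu
    have hvv : v * v ∈ M := hZM (by
      rcases hsq v with e | e <;> rw [e]
      exacts [one_mem _, hwc])
    have hev : ∀ j : ℤ, v ^ (2 * j) ∈ M := fun j => by
      rw [zpow_mul, zpow_two]; exact zpow_mem hvv j
    rcases Int.even_or_odd' k with ⟨j, rfl | rfl⟩
    · exact absurd (hmu ▸ mul_mem hm (hev j)) hxM
    · rw [zpow_add_one] at hmu
      have : v = (v ^ (2 * j))⁻¹ * (m⁻¹ * x) := by rw [← hmu]; group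
      rw [this]
      exact K.mul_mem (K.inv_mem (hK.le (hev j))) (K.mul_mem (K.inv_mem (hK.le hm)) hxK)
  · rw [hcard, Nat.card_zpowers]
    exact orderOf_eq_prime (by rw [sq, hw2]) hw

variable {G : Type*} [Group G] [Finite G]

namespace NSetting

variable {F : G → Subgroup G} {z : G} (S : NSetting F z)
include S

/-- An element outside a subgroup containing `z` is moved to its translate by an element
centralising that subgroup. -/
theorem exists_mover_fixing {H : Subgroup G} (hH : H ≤ F z) (hzH : z ∈ H) {x : G}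
    (hx : x ∈ F z) (hxH : x ∉ H) :
    ∃ q ∈ F z, (∀ h ∈ H, Commute q h) ∧ q * x * q⁻¹ = z * x := by
  by_contra hcon
  push Not at hcon
  apply hxH
  have hzH' : center ↥(F z) ≤ H.subgroupOf (F z) := by
    intro c hc
    rcases S.center_cases c.2 fun q hq =>
      congrArg Subtype.val (mem_center_iff.1 hc ⟨q, hq⟩) with h | h
    · exact mem_subgroupOf.2 (by rw [h]; exact one_mem _)
    · exact mem_subgroupOf.2 (by rw [h]; exact hzH)
  refine mem_subgroupOf.1 (ExtraPair.centralizer_centralizer_le S.es hzH' (x := ⟨x, hx⟩)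
    (mem_centralizer_iff.2 fun p hp => Subtype.ext ?_))
  show (p : G) * x = x * p
  have hpH : ∀ h ∈ H, Commute (p : G) h := fun h hh =>
    (congrArg Subtype.val (mem_centralizer_iff.1 hp ⟨h, hH hh⟩ hh)).symm
  rcases S.commutator_cases p.2 hx with h | h
  · exact commutatorElement_eq_one_iff_mul_comm.1 h
  · exact absurd (mul_inv_eq_iff_eq_mul.1 h) (hcon p p.2 hpH)

end NSetting

/-- `Q = F*(C(z))` extraspecial gives the large hypotheses. -/
theorem data_of_fitting {z : G} (hz : orderOf z = 2) {Q : Subgroup G}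
    (hQC : Q ≤ centralizer ({z} : Set G))
    (hF : (generalizedFittingSubgroup ↥(centralizer ({z} : Set G))).map
      (centralizer ({z} : Set G)).subtype = Q) (hQ : IsExtraspecial 2 ↥Q) :
    centralizer (Q : Set G) = (center ↥Q).map Q.subtype ∧
    (center ↥Q).map Q.subtype = zpowers z ∧
    centralizer (((center ↥Q).map Q.subtype : Subgroup G) : Set G) ≤ normalizer (Q : Set G) := by
  set C := centralizer ({z} : Set G) with hC
  set F := generalizedFittingSubgroup ↥C with hFdef
  have hzC : z ∈ C := mem_centralizer_singleton_iff.2 rfl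
  have hcent : ∀ c ∈ C, (∀ q ∈ Q, q * c = c * q) → c ∈ Q := by
    intro c hc hcq
    rw [← hF]
    refine ⟨⟨c, hc⟩, Layer.centralizer_generalizedFitting_le ?_, rfl⟩
    exact mem_centralizer_iff.2 fun q hq => Subtype.ext (hcq q (hF ▸ ⟨q, hq, rfl⟩))
  have hzQ : z ∈ Q := hcent z hzC fun q hq => mem_centralizer_singleton_iff.1 (hQC hq)
  have hzZ : (⟨z, hzQ⟩ : ↥Q) ∈ center ↥Q := mem_center_iff.2 fun q =>
    Subtype.ext (mem_centralizer_singleton_iff.1 (hQC q.2))
  have hZ : (center ↥Q).map Q.subtype = zpowers z := by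
    have : Fact (Nat.Prime 2) := ⟨Nat.prime_two⟩
    exact (congrArg (Subgroup.map Q.subtype) (Fusion.es_center_zpowers hQ hzZ fun e => by
      have e' : z = 1 := congrArg Subtype.val e
      rw [e', orderOf_one] at hz
      omega).symm).trans (MonoidHom.map_zpowers _ _)
  refine ⟨le_antisymm (fun c hc => ?_) ?_, hZ, ?_⟩
  · have hcC : c ∈ C := mem_centralizer_singleton_iff.2 (mem_centralizer_iff.1 hc z hzQ).symm
    exact ⟨⟨c, hcent c hcC fun q hq => mem_centralizer_iff.1 hc q hq⟩,
      mem_center_iff.2 fun q => Subtype.ext (mem_centralizer_iff.1 hc q q.2), rfl⟩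
  · rintro _ ⟨c, hc, rfl⟩
    exact mem_centralizer_iff.2 fun q hq => congrArg Subtype.val (mem_center_iff.1 hc ⟨q, hq⟩)
  · intro c hc
    have hcC : c ∈ C := mem_centralizer_singleton_iff.2
      (mem_centralizer_iff.1 hc z (hZ ▸ mem_zpowers z)).symm
    have hn := mem_normalizer_iff_map_conj_eq.1
      (show (⟨c, hcC⟩ : ↥C) ∈ normalizer (F : Set ↥C) from by rw [normalizer_eq_top]; trivial)
    rw [← hF, mem_normalizer_iff_map_conj_eq]
    conv_rhs => rw [← hn]
    rw [map_map, map_map]
    rfl

end Cfsg.Agent.LargeExtra
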