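import Cfsg.Agent.LargeExtra.Singular
import Cfsg.Agent.Core.Frattini

/-!
# Singular subgroups for a self-centralising extraspecial `O_2(C(z))`
-/

set_option autoImplicit false

open Cfsg Subgroup

namespace Cfsg.Agent.LargeExtra

theorem map_center {P P' : Type*} [Group P] [Group P'] (e : P ≃* P') :
    (center P).map e.toMonoidHom = center P' := by
  ext y
  constructor
  · rintro ⟨x, hx, rfl⟩
    refine mem_center_iff.2 fun g => ?_
    obtain ⟨g', rfl⟩ := e.surjective g
    show e g' * e x = e x * e g'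
    rw [← map_mul, ← map_mul, mem_center_iff.1 hx]
  · intro hy
    refine ⟨e.symm y, mem_center_iff.2 fun g => e.injective ?_, e.apply_symm_apply y⟩
    rw [map_mul, map_mul, e.apply_symm_apply, mem_center_iff.1 hy]

theorem extraspecial_congr {P P' : Type*} [Group P] [Group P'] [Finite P] [Finite P'] {p : ℕ}
    (e : P ≃* P') (h : IsExtraspecial p P) : IsExtraspecial p P' := by
  obtain ⟨⟨hp, hf, hc⟩, hcard⟩ := h
  refine ⟨⟨hp.of_equiv e, ?_, ?_⟩, ?_⟩
  · rw [← map_center e, ← hf]
    refine le_antisymm ?_ (Core.map_frattini_le_of_surjective e.surjective)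
    intro y hy
    exact ⟨e.symm y, Core.map_frattini_le_of_surjective (f := e.symm.toMonoidHom) e.symm.surjective
      ⟨y, hy, rfl⟩, e.apply_symm_apply y⟩
  · rw [← map_center e, ← hc, commutator_def, commutator_def, map_commutator,
      ← MonoidHom.range_eq_map, MonoidHom.range_eq_top.2 e.surjective]
  · rw [← map_center e, card_map_of_injective e.injective, hcard]

variable {G : Type*} [Group G] [Finite G]

theorem oc_map_conj (g x : G) :
    (oc x).map (MulAut.conj g).toMonoidHom = oc (g * x * g⁻¹) := by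
  refine le_antisymm ?_ fun c hc => ?_
  · rintro _ ⟨c, hc, rfl⟩
    exact conj_mem_oc hc
  · refine ⟨g⁻¹ * c * g, ?_, by simp [mul_assoc]⟩
    have h := conj_mem_oc (g := g⁻¹) hc
    rwa [inv_inv, show g⁻¹ * (g * x * g⁻¹) * g = x by group] at h

theorem Setting.conj {z : G} (S : Setting z) (g : G) : Setting (g * z * g⁻¹) where
  ord := ((MulAut.conj g).orderOf_eq z).trans S.ord
  es := by
    rw [← oc_map_conj]
    exact extraspecial_congr
      ((oc z).equivMapOfInjective _ (MulAut.conj g).injective) S.es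
  cent := by
    intro c hc
    have h : g⁻¹ * c * g ∈ oc z := S.cent (mem_centralizer_iff.2 fun q hq => by
      have h1 : g * q * g⁻¹ * c = c * (g * q * g⁻¹) :=
        mem_centralizer_iff.1 hc _ (conj_mem_oc hq)
      calc q * (g⁻¹ * c * g) = g⁻¹ * (g * q * g⁻¹ * c) * g := by group
        _ = g⁻¹ * c * g * q := by rw [h1]; group)
    have h2 := conj_mem_oc (g := g) h
    rwa [show g * (g⁻¹ * c * g) * g⁻¹ = c by group] at h2

namespace Setting

variable {z : G} (S : Setting z)
include S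

/-- An element outside a subgroup of `O_2(C(z))` containing `z` is moved to its translate by `z`
by an element centralising that subgroup. -/
theorem exists_mover_fixing {H : Subgroup G} (hH : H ≤ oc z) (hzH : z ∈ H) {x : G}
    (hx : x ∈ oc z) (hxH : x ∉ H) :
    ∃ q ∈ oc z, (∀ h ∈ H, Commute q h) ∧ q * x * q⁻¹ = z * x := by
  by_contra hcon
  push Not at hcon
  apply hxH
  have hzH' : center ↥(oc z) ≤ H.subgroupOf (oc z) := by
    intro c hc
    rcases S.center_cases c.2 fun q hq =>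
      congrArg Subtype.val (mem_center_iff.1 hc ⟨q, hq⟩) with h | h
    · exact mem_subgroupOf.2 (by rw [h]; exact one_mem _)
    · exact mem_subgroupOf.2 (by rw [h]; exact hzH)
  refine mem_subgroupOf.1 (ExtraPair.centralizer_centralizer_le S.es hzH' (x := ⟨x, hx⟩)
    (mem_centralizer_iff.2 fun p hp => Subtype.ext ?_))
  show (p : G) * x = x * p
  have hpH : ∀ h ∈ H, Commute (p : G) h := fun h hh =>
    (congrArg Subtype.val (mem_centralizer_iff.1 hp ⟨h, hH hh⟩ hh)).symm
  rcases S.commutator_cases p.2 hx with h | h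
  · exact commutatorElement_eq_one_iff_mul_comm.1 h
  · exact absurd (mul_inv_eq_iff_eq_mul.1 h) (hcon p p.2 hpH)

/-- `Q u ∩ Q v ≤ Q (u v)` for orthogonal conjugates; here `u = z`. -/
theorem inter_le {v e : G} (hv : v ∈ oc z) (hv1 : v ≠ 1) (hvz : v ≠ z) (hzv : z ∈ oc (v * z))
    (he : e ∈ oc z) (hev : e ∈ oc v) : e ∈ oc (v * z) := by
  obtain ⟨y, hy, hyv⟩ := S.exists_mover hv hv1 hvz
  have h1 := conj_mem_oc (g := y) hev
  rw [hyv] at h1
  rcases S.commutator_cases hy he with h | h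
  · rwa [mul_inv_eq_iff_eq_mul.1 h, one_mul] at h1
  · rw [mul_inv_eq_iff_eq_mul.1 h] at h1
    have h2 := mul_mem (inv_mem hzv) h1
    rwa [inv_mul_cancel_left] at h2

end Setting

/-- The hypotheses on a singular subgroup. -/
structure IsSingular (z : G) (U : Subgroup G) : Prop where
  conj : ∀ u ∈ U, u ≠ 1 → ∃ g : G, g * z * g⁻¹ = u
  orth : ∀ u ∈ U, ∀ v ∈ U, u ≠ 1 → v ≠ 1 → v ∈ oc u

namespace IsSingular

variable {z : G} {U : Subgroup G}

theorem setting (h : IsSingular z U) (S : Setting z) {u : G} (hu : u ∈ U) (hu1 : u ≠ 1) :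
    Setting u := by
  obtain ⟨g, rfl⟩ := h.conj u hu hu1
  exact S.conj g

theorem le_oc (h : IsSingular z U) {u : G} (hu : u ∈ U) (hu1 : u ≠ 1) : U ≤ oc u := by
  intro v hv
  by_cases hv1 : v = 1
  · rw [hv1]; exact one_mem _
  · exact h.orth u hu v hv hu1 hv1

theorem comm (h : IsSingular z U) {u v : G} (hu : u ∈ U) (hv : v ∈ U) : Commute v u := by
  by_cases hu1 : u = 1
  · rw [hu1]; exact Commute.one_right v
  · exact mem_centralizer_singleton_iff.1 (oc_le u (h.le_oc hu hu1 hv))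

theorem mem_mul (h : IsSingular z U) (S : Setting z) {u v e : G} (hu : u ∈ U) (hv : v ∈ U)
    (hu1 : u ≠ 1) (hv1 : v ≠ 1) (hw : u * v ≠ 1) (heu : e ∈ oc u) (hev : e ∈ oc v) :
    e ∈ oc (u * v) := by
  have Su := h.setting S hu hu1
  have hvu : v ≠ u := fun e => hw (by rw [e]; exact Su.sq_one)
  have heq : u * v = v * u := (h.comm hv hu).eq
  rw [heq] at hw ⊢
  exact Su.inter_le (h.orth u hu v hv hu1 hv1) hv1 hvu
    (h.orth _ (U.mul_mem hv hu) u hu hw hu1) heu hev

theorem mem_of_generators (h : IsSingular z U) (S : Setting z) {T : Set G} (hT : closure T = U)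
    {e : G} (he : ∀ t ∈ T, t ≠ 1 → e ∈ oc t) :
    ∀ u ∈ U, u ≠ 1 → e ∈ oc u := by
  intro u hu
  rw [← hT] at hu
  induction hu using closure_induction with
  | mem t ht => exact he t ht
  | one => exact fun h1 => absurd rfl h1
  | mul a b ha hb iha ihb =>
    intro hab
    rw [hT] at ha hb
    by_cases ha1 : a = 1
    · subst ha1; rw [one_mul] at hab ⊢; exact ihb hab
    by_cases hb1 : b = 1
    · subst hb1; rw [mul_one] at hab ⊢; exact iha hab
    exact h.mem_mul S ha hb ha1 hb1 hab (iha ha1) (ihb hb1)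
  | inv a ha iha =>
    rw [hT] at ha
    intro hne
    have ha1 : a ≠ 1 := fun e1 => hne (by rw [e1, inv_one])
    rw [inv_eq_of_mul_eq_one_right (h.setting S ha ha1).sq_one]
    exact iha ha1

/-- The elements centralising `QU / U` and normalising `U`. -/
theorem gen_props (h : IsSingular z U) (S : Setting z) {g : G}
    (hg : g ∈ ⨆ u ∈ ((U : Set G) \ {1}), oc u) :
    (∀ v ∈ U, g * v * g⁻¹ ∈ U ∧ g⁻¹ * v * g ∈ U) ∧
    ∀ x : G, (∀ u ∈ U, u ≠ 1 → x ∈ oc u) → g * x * g⁻¹ * x⁻¹ ∈ U := by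
  let K : Subgroup G :=
    { carrier := {g | (∀ v ∈ U, g * v * g⁻¹ ∈ U ∧ g⁻¹ * v * g ∈ U) ∧
        ∀ x : G, (∀ u ∈ U, u ≠ 1 → x ∈ oc u) → g * x * g⁻¹ * x⁻¹ ∈ U}
      one_mem' := ⟨fun v hv => by simpa using hv, fun x _ => by simp⟩
      mul_mem' := by
        rintro a b ⟨ha1, ha2⟩ ⟨hb1, hb2⟩
        refine ⟨fun v hv => ⟨?_, ?_⟩, fun x hx => ?_⟩
        · rw [show a * b * v * (a * b)⁻¹ = a * (b * v * b⁻¹) * a⁻¹ by group]
          exact (ha1 _ (hb1 v hv).1).1
        · rw [show (a * b)⁻¹ * v * (a * b) = b⁻¹ * (a⁻¹ * v * a) * b by group]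
          exact (hb1 _ (ha1 v hv).2).2
        · have hc := hb2 x hx
          rw [show a * b * x * (a * b)⁻¹ * x⁻¹
            = a * (b * x * b⁻¹ * x⁻¹) * a⁻¹ * (a * x * a⁻¹ * x⁻¹) by group]
          exact mul_mem (ha1 _ hc).1 (ha2 x hx)
      inv_mem' := by
        rintro a ⟨ha1, ha2⟩
        refine ⟨fun v hv => ⟨by simpa using (ha1 v hv).2, by simpa using (ha1 v hv).1⟩,
          fun x hx => ?_⟩
        rw [show a⁻¹ * x * a⁻¹⁻¹ * x⁻¹ = (a⁻¹ * (a * x * a⁻¹ * x⁻¹) * a)⁻¹ by group]
        exact inv_mem (ha1 _ (ha2 x hx)).2 }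
  have hle : (⨆ u ∈ ((U : Set G) \ {1}), oc u) ≤ K := by
    refine iSup₂_le fun u hu q hq => ?_
    obtain ⟨huU, hu1⟩ := hu
    have Su := h.setting S huU hu1
    have hcomm : ∀ y ∈ oc u, q * y * q⁻¹ * y⁻¹ ∈ U := fun y hy => by
      rcases Su.commutator_cases hq hy with e | e <;> rw [e]
      · exact one_mem _
      · exact huU
    refine ⟨fun v hv => ⟨?_, ?_⟩, fun x hx => hcomm x (hx u huU hu1)⟩
    · have := mul_mem (hcomm v (h.le_oc huU hu1 hv)) hv
      rwa [inv_mul_cancel_right] at this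
    · have h1 := hcomm (q⁻¹ * v * q) (mul_mem (mul_mem (inv_mem hq) (h.le_oc huU hu1 hv)) hq)
      rw [show q * (q⁻¹ * v * q) * q⁻¹ * (q⁻¹ * v * q)⁻¹ = v * (q⁻¹ * v * q)⁻¹ by group] at h1
      have h2 := mul_mem (inv_mem h1) hv
      rwa [show (v * (q⁻¹ * v * q)⁻¹)⁻¹ * v = q⁻¹ * v * q by group] at h2
  exact hle hg

end IsSingular

end Cfsg.Agent.LargeExtra

namespace Cfsg.Agent.LargeExtra.IsSingular

open Subgroup

variable {G : Type*} [Group G] [Finite G] {z : G} {U : Subgroup G}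

theorem le_inter (h : IsSingular z U) : U ≤ ⨅ u ∈ ((U : Set G) \ {1}), oc u :=
  le_iInf₂ fun _ hu => h.le_oc hu.1 hu.2

theorem mem_inter_iff {x : G} :
    x ∈ (⨅ u ∈ ((U : Set G) \ {1}), oc u) ↔ ∀ u ∈ U, u ≠ 1 → x ∈ oc u := by
  simp only [Subgroup.mem_iInf, Set.mem_sdiff, Set.mem_singleton_iff, SetLike.mem_coe, and_imp]

theorem le_join {u : G} (hu : u ∈ U) (hu1 : u ≠ 1) :
    oc u ≤ ⨆ u ∈ ((U : Set G) \ {1}), oc u :=
  le_iSup₂_of_le u ⟨hu, hu1⟩ le_rfl

/-- Any automorphism of a singular subgroup is induced by the join of the `Q u`. -/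
theorem exists_induced (h : IsSingular z U) (S : Setting z) (φ : ↥U ≃* ↥U) :
    ∃ g ∈ ⨆ u ∈ ((U : Set G) \ {1}), oc u, ∀ u : ↥U, g * (u : G) * g⁻¹ = ((φ u : ↥U) : G) := by
  set L := ⨆ u ∈ ((U : Set G) \ {1}), oc u with hL
  let agree : G → Subgroup ↥U := fun g =>
    ((MulAut.conj g).toMonoidHom.comp U.subtype).eqLocus (U.subtype.comp φ.toMonoidHom)
  obtain ⟨⟨g, hg⟩, hmax⟩ := Finite.exists_max (fun g : ↥L => Nat.card ↥(agree g))
  by_cases htop : agree g = ⊤
  · refine ⟨g, hg, fun u => ?_⟩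
    have : u ∈ agree g := by rw [htop]; exact mem_top u
    exact this
  exfalso
  obtain ⟨a, ha⟩ : ∃ a, a ∉ agree g := by
    by_contra hcon
    push Not at hcon
    exact htop (eq_top_iff.2 fun u _ => hcon u)
  set a' := g * (a : G) * g⁻¹ with ha'
  have ha'U : a' ∈ U := ((h.gen_props S hg).1 a a.2).1
  set b : G := ((φ a : ↥U) : G) with hb
  have hne : a' ≠ b := fun e => ha e
  set u := b * a'⁻¹ with hu
  have huU : u ∈ U := U.mul_mem (φ a).2 (U.inv_mem ha'U)
  have hu1 : u ≠ 1 := fun e => hne (mul_inv_eq_one.1 e).symm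
  have Su := h.setting S huU hu1
  let W' : Subgroup G := ((agree g).map φ.toMonoidHom).map U.subtype
  have hW'U : W' ≤ U := map_subtype_le _
  let H : Subgroup G := closure ((W' : Set G) ∪ {u})
  have hHU : H ≤ U := (closure_le _).2 (Set.union_subset hW'U (by simpa using huU))
  have haH : a' ∉ H := by
    intro hmem
    have hform : ∀ c ∈ H, c ∈ W' ∨ u * c ∈ W' := by
      intro c hc
      induction hc using closure_induction with
      | mem c hc =>
        rcases hc with hc | hc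
        · exact Or.inl hc
        · right; rw [Set.mem_singleton_iff.1 hc, Su.sq_one]; exact one_mem _
      | one => exact Or.inl (one_mem _)
      | mul c d hcm hdm hc hd =>
        have hcU := hHU hcm
        have hcu : Commute u c := h.comm hcU huU
        rcases hc with hc | hc <;> rcases hd with hd | hd
        · exact Or.inl (mul_mem hc hd)
        · right; rw [← mul_assoc, hcu.eq, mul_assoc]; exact mul_mem hc hd
        · right; rw [← mul_assoc]; exact mul_mem hc hd
        · left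
          have e : u * c * (u * d) = c * d := by
            rw [hcu.eq, mul_assoc, ← mul_assoc u, Su.sq_one, one_mul]
          rw [← e]; exact mul_mem hc hd
      | inv c hcm hc =>
        rcases hc with hc | hc
        · exact Or.inl (inv_mem hc)
        · right
          have e : u * c⁻¹ = (u * c)⁻¹ := by
            rw [mul_inv_rev, inv_eq_of_mul_eq_one_right Su.sq_one]
            exact ((h.comm (hHU hcm) huU).inv_right).eq
          rw [e]; exact inv_mem hc
    rcases hform a' hmem with hw | hw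
    · obtain ⟨_, ⟨w, hw, rfl⟩, hwe⟩ := hw
      have hwa : g * (w : G) * g⁻¹ = ((φ w : ↥U) : G) := hw
      have : (w : G) = a := by
        have : g * (w : G) * g⁻¹ = a' := hwa.trans hwe
        simpa [ha'] using this
      exact ha (by rwa [← Subtype.ext this])
    · rw [hu, inv_mul_cancel_right] at hw
      obtain ⟨_, ⟨w, hw, rfl⟩, hwe⟩ := hw
      have : w = a := φ.injective (Subtype.ext hwe)
      exact ha (this ▸ hw)
  obtain ⟨q, hq, hqH, hqa⟩ := Su.exists_mover_fixing (hHU.trans (h.le_oc huU hu1))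
    (subset_closure (Or.inr rfl)) (h.le_oc huU hu1 ha'U) haH
  have hqa' : q * a' * q⁻¹ = b := by rw [hqa, hu, inv_mul_cancel_right]
  have hle : agree g < agree (q * g) := by
    refine lt_of_le_of_ne (fun w hw => ?_) fun e => ha ?_
    · have hwa : g * (w : G) * g⁻¹ = ((φ w : ↥U) : G) := hw
      have hmem : ((φ w : ↥U) : G) ∈ W' := ⟨φ w, ⟨w, hw, rfl⟩, rfl⟩
      show q * g * (w : G) * (q * g)⁻¹ = ((φ w : ↥U) : G)
      calc q * g * (w : G) * (q * g)⁻¹ = q * (g * w * g⁻¹) * q⁻¹ := by group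
        _ = _ := by rw [hwa, (hqH _ (subset_closure (Or.inl hmem))).eq, mul_inv_cancel_right]
    · rw [e]
      show q * g * (a : G) * (q * g)⁻¹ = b
      rw [← hqa', ha']
      group
  have hqg : q * g ∈ L := mul_mem (le_join huU hu1 hq) hg
  have hlt : Nat.card ↥(agree g) < Nat.card ↥(agree (q * g)) := by
    have hlt' : (agree g : Set ↥U).ncard < (agree (q * g) : Set ↥U).ncard :=
      Set.ncard_lt_ncard (SetLike.coe_ssubset_coe.2 hle)
    simpa [← Nat.card_coe_set_eq] using hlt'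
  exact absurd (hmax ⟨q * g, hqg⟩) (not_le.2 hlt)

end Cfsg.Agent.LargeExtra.IsSingular
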