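import Mathlib
import Cfsg.Agent.LargeExtra.Quotient

/-!
# The extraspecial 2-groups as cocycle groups, and their 2-ranks
-/

namespace Cfsg.Agent.LargeExtra

open Finset
open scoped commutatorElement

abbrev HV (m : ℕ) := (Fin (m + 1) → ZMod 2) × (Fin (m + 1) → ZMod 2)

variable {m : ℕ}

/-- The cocycle. -/
def hbeta (c : ZMod 2) (v w : HV m) : ZMod 2 :=
  v.1 ⬝ᵥ w.2 + c * (v.1 0 * w.1 0 + v.2 0 * w.2 0)

theorem hbeta_add_left (c : ZMod 2) (u v w : HV m) :
    hbeta c (u + v) w = hbeta c u w + hbeta c v w := by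
  simp only [hbeta, Prod.fst_add, Prod.snd_add, add_dotProduct, Pi.add_apply]; ring

theorem hbeta_add_right (c : ZMod 2) (u v w : HV m) :
    hbeta c u (v + w) = hbeta c u v + hbeta c u w := by
  simp only [hbeta, Prod.fst_add, Prod.snd_add, dotProduct_add, Pi.add_apply]; ring

/-- The polar form. -/
def hB (v w : HV m) : ZMod 2 := v.1 ⬝ᵥ w.2 + w.1 ⬝ᵥ v.2

theorem hbeta_symm_add (c : ZMod 2) (v w : HV m) : hbeta c v w + hbeta c w v = hB v w := by
  have : ∀ x : ZMod 2, x + x = 0 := by decide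
  simp only [hbeta, hB]
  linear_combination this (c * (v.1 0 * w.1 0 + v.2 0 * w.2 0))

theorem hB_add_left (u v w : HV m) : hB (u + v) w = hB u w + hB v w := by
  simp only [hB, Prod.fst_add, Prod.snd_add, add_dotProduct, dotProduct_add]; ring

theorem hB_comm (v w : HV m) : hB v w = hB w v := add_comm _ _

theorem hB_nondeg {v : HV m} (h : ∀ w, hB v w = 0) : v = 0 := by
  have h1 : ∀ i, v.1 i = 0 := fun i => by simpa [hB] using h (0, Pi.single i 1)
  have h2 : ∀ i, v.2 i = 0 := fun i => by simpa [hB] using h (Pi.single i 1, 0)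
  exact Prod.ext (funext h1) (funext h2)

theorem hcard : Nat.card (HV m) = 2 ^ (2 * (m + 1)) := by
  rw [Nat.card_prod, Nat.card_fun, Nat.card_zmod, Nat.card_eq_fintype_card (α := Fin (m + 1)),
    Fintype.card_fin, two_mul, ← pow_add]

/-- The nontrivial character of `ZMod 2`. -/
def hchi (x : ZMod 2) : ℤ := if x = 0 then 1 else -1

theorem hchi_add : ∀ x y : ZMod 2, hchi (x + y) = hchi x * hchi y := by decide

theorem sum_char (W : AddSubgroup (HV m)) [Fintype ↥W] (v : HV m) [Decidable (∀ w ∈ W, hB v w = 0)] :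
    ∑ w : ↥W, hchi (hB (w : HV m) v) = if ∀ w ∈ W, hB v w = 0 then (Fintype.card ↥W : ℤ) else 0 := by
  split_ifs with h
  · rw [Finset.sum_congr rfl fun w _ => by rw [hB_comm, h _ w.2]]
    simp [hchi]
  · push Not at h
    obtain ⟨w₀, hw₀, hne⟩ := h
    have e1 : hchi (hB w₀ v) = -1 := by
      rw [hB_comm]; simp [hchi, hne]
    have e2 := Equiv.sum_comp (Equiv.addRight (⟨w₀, hw₀⟩ : ↥W)) (fun w : ↥W => hchi (hB (w : HV m) v))
    simp only [Equiv.coe_addRight, AddSubgroup.coe_add, hB_add_left, hchi_add, e1,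
      ← Finset.sum_mul] at e2
    omega

theorem card_mul_perp (W : AddSubgroup (HV m)) :
    Nat.card ↥W * Nat.card {v : HV m // ∀ w ∈ W, hB v w = 0} = Nat.card (HV m) := by
  classical
  have key : ∑ v : HV m, ∑ w : ↥W, hchi (hB (w : HV m) v) = ∑ w : ↥W, ∑ v : HV m, hchi (hB (w : HV m) v) :=
    Finset.sum_comm
  have h2 : ∀ w : ↥W, ∑ v : HV m, hchi (hB (w : HV m) v) =
      if w = 0 then (Fintype.card (HV m) : ℤ) else 0 := by
    intro w
    have := sum_char (⊤ : AddSubgroup (HV m)) (w : HV m)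
    have e3 : ∑ x : ↥(⊤ : AddSubgroup (HV m)), hchi (hB (x : HV m) (w : HV m)) =
        ∑ x : HV m, hchi (hB x (w : HV m)) :=
      Equiv.sum_comp (AddSubgroup.topEquiv (G := HV m)).toEquiv (fun x : HV m => hchi (hB x (w : HV m)))
    rw [e3] at this
    simp only [hB_comm] at this
    rw [show ∑ v : HV m, hchi (hB (w : HV m) v) = ∑ v : HV m, hchi (hB v (w : HV m)) from
      Finset.sum_congr rfl fun v _ => by rw [hB_comm]]
    rw [this]
    split_ifs with a b
    · simp
    · exact absurd (Subtype.ext (hB_nondeg fun u => by rw [hB_comm]; exact a u trivial)) b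
    · subst_vars; exact absurd (fun u _ => by simp [hB]) a
    · rfl
  rw [Finset.sum_congr rfl fun w _ => h2 w, Finset.sum_ite_eq' Finset.univ (0 : ↥W),
    if_pos (Finset.mem_univ _)] at key
  rw [Finset.sum_congr rfl fun v _ => sum_char W v, ← Finset.sum_filter, Finset.sum_const,
    nsmul_eq_mul, mul_comm] at key
  rw [Nat.card_eq_fintype_card (α := ↥W), Nat.card_eq_fintype_card (α := HV m),
    Nat.card_eq_fintype_card, Fintype.card_subtype (fun v : HV m => ∀ w ∈ W, hB v w = 0)]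
  exact_mod_cast key

theorem gauss (c : ZMod 2) (W : AddSubgroup (HV m)) (hq : ∀ w ∈ W, hbeta c w w = 0)
    (hperp : ∀ v : HV m, (∀ w ∈ W, hB v w = 0) → v ∈ W) (hiso : ∀ v ∈ W, ∀ w ∈ W, hB v w = 0) :
    ∑ v : HV m, hchi (hbeta c v v) = Nat.card ↥W := by
  classical
  set S := ∑ v : HV m, hchi (hbeta c v v)
  have h1 : ∑ w : ↥W, ∑ v : HV m, hchi (hbeta c (v + (w : HV m)) (v + (w : HV m))) = (Fintype.card ↥W : ℤ) * S := by
    have e : ∀ w : ↥W, ∑ v : HV m, hchi (hbeta c (v + (w : HV m)) (v + (w : HV m))) = S := fun w =>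
      Equiv.sum_comp (Equiv.addRight (w : HV m)) (fun v => hchi (hbeta c v v))
    rw [Finset.sum_congr rfl fun w _ => e w]
    simp [S]
  have h2 : ∑ v : HV m, ∑ w : ↥W, hchi (hbeta c (v + (w : HV m)) (v + (w : HV m))) =
      (Fintype.card ↥W : ℤ) * Fintype.card ↥W := by
    have hstep : ∀ v : HV m, ∑ w : ↥W, hchi (hbeta c (v + (w : HV m)) (v + (w : HV m))) =
        if v ∈ W then (Fintype.card ↥W : ℤ) else 0 := by
      intro v
      have e : ∀ w : ↥W, hchi (hbeta c (v + (w : HV m)) (v + (w : HV m))) = hchi (hbeta c v v) * hchi (hB (w : HV m) v) := by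
        intro w
        rw [← hchi_add, ← hbeta_symm_add c (w : HV m) v]
        simp only [hbeta_add_left, hbeta_add_right, hq _ w.2]
        ring_nf
      rw [Finset.sum_congr rfl fun w _ => e w, ← Finset.mul_sum, sum_char]
      by_cases hv : v ∈ W
      · rw [if_pos (hiso v hv), if_pos hv, hq v hv]; simp [hchi]
      · rw [if_neg (fun h => hv (hperp v h)), if_neg hv, mul_zero]
    rw [Finset.sum_congr rfl fun v _ => hstep v, ← Finset.sum_filter, Finset.sum_const,
      ← Fintype.card_subtype]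
    simp
  rw [Finset.sum_comm, h2] at h1
  rw [Nat.card_eq_fintype_card]
  exact (mul_left_cancel₀ (by exact_mod_cast Fintype.card_ne_zero) h1).symm

theorem isotropic_bound (W : AddSubgroup (HV m)) (hiso : ∀ v ∈ W, ∀ w ∈ W, hB v w = 0) :
    Nat.card ↥W ≤ 2 ^ (m + 1) ∧
      (2 ^ (m + 1) ≤ Nat.card ↥W → ∀ v : HV m, (∀ w ∈ W, hB v w = 0) → v ∈ W) := by
  have h := card_mul_perp W
  rw [hcard, two_mul, pow_add] at h
  let f : ↥W → {v : HV m // ∀ w ∈ W, hB v w = 0} := fun v => ⟨v, hiso v v.2⟩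
  have hf : Function.Injective f := fun a b hab => Subtype.ext (congrArg (fun x : {v : HV m // ∀ w ∈ W, hB v w = 0} => (x : HV m)) hab)
  have hle := Nat.card_le_card_of_injective f hf
  refine ⟨Nat.mul_self_le_mul_self_iff.1 ((Nat.mul_le_mul_left _ hle).trans h.le), fun hge v hv => ?_⟩
  have heq : Nat.card {v : HV m // ∀ w ∈ W, hB v w = 0} ≤ Nat.card ↥W := by
    by_contra hlt
    have := Nat.mul_lt_mul_of_pos_left (not_le.1 hlt) (Nat.card_pos (α := ↥W))
    have := Nat.mul_le_mul hge hge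
    omega
  obtain ⟨a, ha⟩ := ((Nat.bijective_iff_injective_and_card f).2 ⟨hf, le_antisymm hle heq⟩).2 ⟨v, hv⟩
  rw [show v = (a : HV m) from (congrArg Subtype.val ha).symm]
  exact a.2

theorem no_minus_lagrangian (W : AddSubgroup (HV m)) (hq : ∀ w ∈ W, hbeta 1 w w = 0)
    (hiso : ∀ v ∈ W, ∀ w ∈ W, hB v w = 0) : Nat.card ↥W < 2 ^ (m + 1) := by
  by_contra hc
  have hS1 := gauss 1 W hq ((isotropic_bound W hiso).2 (not_lt.1 hc)) hiso
  let L : AddSubgroup (HV m) :=
    { carrier := {v | v.2 = 0}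
      zero_mem' := rfl
      add_mem' := fun {a b} (ha : a.2 = 0) (hb : b.2 = 0) => show a.2 + b.2 = 0 by rw [ha, hb, add_zero]
      neg_mem' := fun {a} (ha : a.2 = 0) => show -a.2 = 0 by rw [ha, neg_zero] }
  have hLq : ∀ w ∈ L, hbeta 0 w w = 0 := fun w (hw : w.2 = 0) => by simp [hbeta, hw]
  have hLi : ∀ v ∈ L, ∀ w ∈ L, hB v w = 0 := fun v (hv : v.2 = 0) w (hw : w.2 = 0) => by
    simp [hB, hv, hw]
  have hS0 := gauss 0 L hLq (fun v hv => by
    show v.2 = 0
    funext i
    simpa [hB] using hv (Pi.single i 1, 0) (show (0 : Fin (m + 1) → ZMod 2) = 0 from rfl)) hLi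
  let e : HV m := (Pi.single 0 1, Pi.single 0 1)
  have hshift : ∀ v : HV m, hchi (hbeta 0 (v + e) (v + e)) = - hchi (hbeta 1 v v) := by
    intro v
    have hid : hbeta 0 (v + e) (v + e) = hbeta 1 v v + 1 := by
      have : ∀ a b : ZMod 2, a + b + 1 = a * a + b * b + 1 := by decide
      simp only [hbeta_add_left, hbeta_add_right]
      simp [hbeta, e]
      linear_combination this (v.1 0) (v.2 0)
    rw [hid, hchi_add]; simp [hchi]
  have hneg : ∑ v : HV m, hchi (hbeta 0 v v) = - ∑ v : HV m, hchi (hbeta 1 v v) := by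
    rw [← Equiv.sum_comp (Equiv.addRight e) (fun v => hchi (hbeta 0 v v)), ← Finset.sum_neg_distrib]
    exact Finset.sum_congr rfl fun v _ => hshift v
  rw [hS0, hS1] at hneg
  have := Nat.card_pos (α := ↥L)
  omega

/-- The cocycle group. -/
@[ext] structure Heis (m : ℕ) (c : ZMod 2) where
  v : HV m
  s : ZMod 2

namespace Heis

variable {c : ZMod 2}

instance : Mul (Heis m c) := ⟨fun x y => ⟨x.v + y.v, x.s + y.s + hbeta c x.v y.v⟩⟩
instance : One (Heis m c) := ⟨⟨0, 0⟩⟩
instance : Inv (Heis m c) := ⟨fun x => ⟨-x.v, -x.s + hbeta c x.v x.v⟩⟩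

theorem mul_def (x y : Heis m c) : x * y = ⟨x.v + y.v, x.s + y.s + hbeta c x.v y.v⟩ := rfl
theorem one_def : (1 : Heis m c) = ⟨0, 0⟩ := rfl
theorem inv_def (x : Heis m c) : x⁻¹ = ⟨-x.v, -x.s + hbeta c x.v x.v⟩ := rfl

theorem hbeta_zero_left (w : HV m) : hbeta c 0 w = 0 := by simp [hbeta]

theorem hbeta_neg_left (v w : HV m) : hbeta c (-v) w = - hbeta c v w := by
  have := hbeta_add_left c (-v) v w
  rw [neg_add_cancel, hbeta_zero_left] at this
  linear_combination -this

instance : Group (Heis m c) :=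
  Group.ofLeftAxioms
    (fun a b d => by
      refine Heis.ext (add_assoc _ _ _) ?_
      simp only [mul_def, hbeta_add_left, hbeta_add_right]; ring)
    (fun a => by refine Heis.ext (zero_add _) ?_; simp [mul_def, one_def, hbeta_zero_left])
    (fun a => by
      refine Heis.ext (neg_add_cancel _) ?_
      simp only [mul_def, inv_def, one_def, hbeta_neg_left]; ring)

instance : Finite (Heis m c) :=
  Finite.of_injective (fun x => (x.v, x.s)) fun x y h => Heis.ext (congrArg Prod.fst h) (congrArg Prod.snd h)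

theorem card : Nat.card (Heis m c) = 2 ^ (2 * (m + 1) + 1) := by
  rw [Nat.card_congr (⟨fun x => (x.v, x.s), fun p => ⟨p.1, p.2⟩, fun _ => rfl, fun _ => rfl⟩ :
    Heis m c ≃ HV m × ZMod 2), Nat.card_prod, hcard, Nat.card_zmod, pow_succ]

theorem dbl (v : HV m) : v + v = 0 := by
  have : ∀ a : ZMod 2, a + a = 0 := by decide
  exact Prod.ext (funext fun i => this _) (funext fun i => this _)

theorem sq_eq (x : Heis m c) : x * x = ⟨0, hbeta c x.v x.v⟩ := by
  have : ∀ a b : ZMod 2, a + a + b = b := by decide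
  exact Heis.ext (dbl _) (this _ _)

theorem comm_iff (x y : Heis m c) : x * y = y * x ↔ hB x.v y.v = 0 := by
  have key : ∀ a b : ZMod 2, a = b ↔ a + b = 0 := by decide
  rw [← hbeta_symm_add c, mul_def, mul_def, ← key, Heis.ext_iff]
  refine ⟨fun h => ?_, fun h => ⟨add_comm _ _, ?_⟩⟩
  · have h2 := h.2; dsimp only at h2; linear_combination h2
  · dsimp only; linear_combination h

theorem extraspecial : Cfsg.IsExtraspecial 2 (Heis m c) := by
  have hz : ∀ a : ZMod 2, a = 0 ∨ a = 1 := by decide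
  have : Fact (Nat.Prime 2) := ⟨Nat.prime_two⟩
  refine extraspecial_of (w := ⟨0, 1⟩) (IsPGroup.of_card card) ?_ ?_ ?_ ?_ ?_ ?_ ?_
  · intro h; exact absurd (congrArg Heis.s h) (by simp [one_def])
  · rw [sq_eq]; exact Heis.ext rfl (hbeta_zero_left 0)
  · exact Subgroup.mem_center_iff.2 fun g => (comm_iff _ _).2 (by simp [hB])
  · intro x hx
    have hv : x.v = 0 := hB_nondeg fun w =>
      (comm_iff x ⟨w, 0⟩).1 (Subgroup.mem_center_iff.1 hx _).symm
    rcases hz x.s with h | h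
    · exact Or.inl (Heis.ext hv h)
    · exact Or.inr (Heis.ext hv h)
  · intro a b
    have hv : (⁅a, b⁆).v = 0 := by
      simp [commutatorElement_def, mul_def, inv_def]
    rcases hz (⁅a, b⁆).s with h | h
    · exact Or.inl (Heis.ext hv h)
    · exact Or.inr (Heis.ext hv h)
  · intro a
    rw [sq_eq]
    rcases hz (hbeta c a.v a.v) with h | h <;> rw [h]
    · exact Or.inl rfl
    · exact Or.inr rfl
  · refine ⟨⟨(Pi.single 0 1, 0), 0⟩, ⟨(0, Pi.single 0 1), 0⟩, fun h => ?_⟩
    have := (comm_iff _ _).1 h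
    simp [hB] at this

/-- The image of an elementary abelian subgroup. -/
theorem image_bound (A : Subgroup (Heis m c)) (hA : Cfsg.IsElementaryAbelian 2 A) :
    ∃ W : AddSubgroup (HV m), (∀ w ∈ W, hbeta c w w = 0) ∧ (∀ v ∈ W, ∀ w ∈ W, hB v w = 0) ∧
      Nat.card ↥A ≤ 2 * Nat.card ↥W := by
  let W : AddSubgroup (HV m) :=
    { carrier := {v | ∃ x ∈ A, x.v = v}
      zero_mem' := ⟨1, A.one_mem, rfl⟩
      add_mem' := fun {a b} => by
        rintro ⟨x, hx, rfl⟩ ⟨y, hy, rfl⟩; exact ⟨x * y, A.mul_mem hx hy, rfl⟩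
      neg_mem' := fun {a} => by
        rintro ⟨x, hx, rfl⟩; exact ⟨x⁻¹, A.inv_mem hx, rfl⟩ }
  refine ⟨W, ?_, ?_, ?_⟩
  · rintro _ ⟨x, hx, rfl⟩
    have := hA.2 x hx
    rw [sq, sq_eq] at this
    exact congrArg Heis.s this
  · rintro _ ⟨x, hx, rfl⟩ _ ⟨y, hy, rfl⟩
    exact (comm_iff x y).1 (congrArg Subtype.val (hA.1.is_comm.comm (⟨x, hx⟩ : ↥A) ⟨y, hy⟩))
  · let f : ↥A → ↥W × ZMod 2 := fun x => (⟨x.1.v, x.1, x.2, rfl⟩, x.1.s)
    have hf : Function.Injective f := fun a b h => Subtype.ext (Heis.ext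
      (congrArg (fun p => ((p : ↥W × ZMod 2).1 : HV m)) h) (congrArg (fun p => (p : ↥W × ZMod 2).2) h))
    have := Nat.card_le_card_of_injective f hf
    rwa [Nat.card_prod, Nat.card_zmod, mul_comm] at this

theorem exists_elem {k : ℕ} (i : (Fin k → ZMod 2) →+ (Fin (m + 1) → ZMod 2))
    (hi : Function.Injective i) (hc : ∀ a, c * i a 0 = 0) :
    ∃ A : Subgroup (Heis m c), Cfsg.IsElementaryAbelian 2 A ∧ Nat.card ↥A = 2 ^ (k + 1) := by
  have hb : ∀ a b, hbeta c ((i a, 0) : HV m) (i b, 0) = 0 := fun a b => by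
    simp [hbeta, ← mul_assoc, hc]
  let φ : Multiplicative ((Fin k → ZMod 2) × ZMod 2) →* Heis m c :=
    { toFun := fun p => ⟨(i p.toAdd.1, 0), p.toAdd.2⟩
      map_one' := by simp [one_def]
      map_mul' := fun p q => by
        refine Heis.ext ?_ ?_
        · simp [mul_def]
        · simp [mul_def, hb] }
  have hφ : Function.Injective φ := fun p q h => by
    have h1 := congrArg (fun x : Heis m c => x.v.1) h
    have h2 := congrArg Heis.s h
    exact Multiplicative.toAdd.injective (Prod.ext (hi h1) h2)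
  refine ⟨φ.range, ⟨⟨⟨?_⟩⟩, ?_⟩, ?_⟩
  · rintro ⟨_, p, rfl⟩ ⟨_, q, rfl⟩
    exact Subtype.ext (show φ p * φ q = φ q * φ p by rw [← map_mul, mul_comm, map_mul])
  · rintro _ ⟨p, rfl⟩
    rw [sq, ← map_mul, show p * p = 1 from ?_, map_one]
    have : ∀ a : ZMod 2, a + a = 0 := by decide
    exact Multiplicative.toAdd.injective (Prod.ext (funext fun j => this _) (this _))
  · rw [← Nat.card_congr (MonoidHom.ofInjective hφ).toEquiv, Nat.card_congr Multiplicative.toAdd,
      Nat.card_prod, Nat.card_fun, Nat.card_zmod, Nat.card_eq_fintype_card, Fintype.card_fin, pow_succ]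

theorem rank_plus : IsGreatest {k : ℕ | ∃ A : Subgroup (Heis m 0),
    Cfsg.IsElementaryAbelian 2 A ∧ Nat.card A = 2 ^ k} (m + 2) := by
  refine ⟨exists_elem (AddMonoidHom.id _) Function.injective_id (fun a => zero_mul _), ?_⟩
  rintro k ⟨A, hA, hk⟩
  obtain ⟨W, -, hiso, hle⟩ := image_bound A hA
  refine (Nat.pow_le_pow_iff_right (show 1 < 2 by norm_num)).1 ?_
  have := (isotropic_bound W hiso).1
  rw [pow_succ]; omega

theorem rank_minus : IsGreatest {k : ℕ | ∃ A : Subgroup (Heis m 1),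
    Cfsg.IsElementaryAbelian 2 A ∧ Nat.card A = 2 ^ k} (m + 1) := by
  refine ⟨exists_elem (k := m)
    { toFun := fun a => Fin.cons 0 a, map_zero' := by funext i; refine Fin.cases ?_ ?_ i <;> simp,
      map_add' := fun a b => by funext i; refine Fin.cases ?_ ?_ i <;> simp }
    (fun a b h => (Fin.cons_right_injective (α := fun _ => ZMod 2) (0 : ZMod 2)) h) (fun a => by simp), ?_⟩
  rintro k ⟨A, hA, hk⟩
  obtain ⟨W, hq, hiso, hle⟩ := image_bound A hA
  refine Nat.lt_succ_iff.1 ((Nat.pow_lt_pow_iff_right (show 1 < 2 by norm_num)).1 ?_)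
  have := no_minus_lagrangian W hq hiso
  rw [pow_succ]; omega

end Heis

end Cfsg.Agent.LargeExtra
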