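import Mathlib
import Cfsg.Prelude.Def_Classical
import Cfsg.Prelude.Def_KGroupFacts
import Cfsg.Agent.LargeExtra.Heis
import Cfsg.Agent.Fusion.Extraspecial
import Cfsg.Agent.Classical.QuadMat

/-!
# Automorphisms of extraspecial 2-groups
-/

namespace Cfsg.Agent.LargeExtra.Heis

open Matrix
open scoped commutatorElement

variable {m : ℕ} {c : ZMod 2}

theorem hbeta_zero_right (v : HV m) : hbeta c v 0 = 0 := by simp [hbeta]

theorem split (x : Heis m c) : x = ⟨x.v, 0⟩ * ⟨0, x.s⟩ := by
  refine Heis.ext (add_zero _).symm ?_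
  show x.s = 0 + x.s + hbeta c x.v 0
  rw [hbeta_zero_right]; simp

theorem central_fixed (φ : MulAut (Heis m c)) (s : ZMod 2) : φ ⟨0, s⟩ = ⟨0, s⟩ := by
  have hv : (φ ⟨0, s⟩).v = 0 := by
    refine hB_nondeg fun w => (comm_iff (φ ⟨0, s⟩) ⟨w, 0⟩).1 ?_
    obtain ⟨y, hy⟩ := φ.surjective ⟨w, 0⟩
    rw [← hy, ← map_mul, ← map_mul, (comm_iff (⟨0, s⟩ : Heis m c) y).2 (by simp [hB])]
  rcases zmod2' s with rfl | rfl
  · exact map_one φ
  · rcases zmod2' (φ ⟨0, 1⟩).s with h | h
    · exfalso
      have h1 : φ (⟨0, 1⟩ : Heis m c) = φ 1 := by rw [map_one]; exact Heis.ext hv h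
      exact one_ne_zero (congrArg Heis.s (φ.injective h1))
    · exact Heis.ext hv h
where zmod2' : ∀ s : ZMod 2, s = 0 ∨ s = 1 := by decide

/-- The map induced on the central quotient. -/
def quotMap (φ : MulAut (Heis m c)) : HV m →+ HV m where
  toFun v := (φ ⟨v, 0⟩).v
  map_zero' := by
    show (φ 1).v = 0
    rw [map_one]; rfl
  map_add' v w := by
    have h := congrArg Heis.v (map_mul φ (⟨v, 0⟩ : Heis m c) ⟨w, 0⟩)
    rw [mul_def ⟨v, 0⟩, split (⟨v + w, 0 + 0 + hbeta c v w⟩ : Heis m c), map_mul, central_fixed] at h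
    simpa [mul_def] using h

theorem apply_v (φ : MulAut (Heis m c)) (x : Heis m c) : (φ x).v = quotMap φ x.v := by
  conv_lhs => rw [split x, map_mul, central_fixed]
  exact add_zero _

theorem quotMap_mul (φ ψ : MulAut (Heis m c)) (v : HV m) :
    quotMap (φ * ψ) v = quotMap φ (quotMap ψ v) := apply_v φ _

theorem quotMap_one (v : HV m) : quotMap (1 : MulAut (Heis m c)) v = v := rfl

theorem quotMap_form (φ : MulAut (Heis m c)) (v : HV m) :
    hbeta c (quotMap φ v) (quotMap φ v) = hbeta c v v := by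
  have h := map_mul φ (⟨v, 0⟩ : Heis m c) ⟨v, 0⟩
  rw [sq_eq, central_fixed, sq_eq] at h
  exact (congrArg Heis.s h).symm

theorem zmod2_add_add : ∀ a b : ZMod 2, a + b + b = a := by decide

variable {ι : Type} [Fintype ι] [DecidableEq ι] (e : (ι → ZMod 2) ≃ₗ[ZMod 2] HV m)

/-- The induced linear map in coordinates. -/
def coordMap (φ : MulAut (Heis m c)) : (ι → ZMod 2) →ₗ[ZMod 2] (ι → ZMod 2) :=
  e.symm.toLinearMap ∘ₗ ((quotMap φ).toZModLinearMap 2) ∘ₗ e.toLinearMap

theorem coordMap_apply (φ : MulAut (Heis m c)) (x : ι → ZMod 2) :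
    coordMap e φ x = e.symm (quotMap φ (e x)) := rfl

/-- The induced matrix. -/
noncomputable def matHom : MulAut (Heis m c) →* Matrix ι ι (ZMod 2) where
  toFun φ := LinearMap.toMatrix' (coordMap e φ)
  map_one' := by
    rw [show coordMap e (1 : MulAut (Heis m c)) = LinearMap.id from
      LinearMap.ext fun x => by rw [coordMap_apply, quotMap_one]; simp, LinearMap.toMatrix'_id]
  map_mul' φ ψ := by
    rw [← LinearMap.toMatrix'_comp]
    congr 1
    refine LinearMap.ext fun x => ?_
    simp [coordMap_apply, quotMap_mul]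

variable {Q : (ι → ZMod 2) → ZMod 2}

/-- The homomorphism to the isometry group. -/
noncomputable def isoHom (hQ : ∀ x, Q x = hbeta c (e x) (e x)) :
    MulAut (Heis m c) →* Cfsg.isometryGroup (ZMod 2) Q :=
  (matHom e).toHomUnits.codRestrict _ fun φ => by
    refine (Classical.Quad.mem_isometryGroup_iff).2 fun x => ?_
    show Q (LinearMap.toMatrix' (coordMap e φ) *ᵥ x) = Q x
    rw [LinearMap.toMatrix'_mulVec, hQ, hQ, coordMap_apply, LinearEquiv.apply_symm_apply, quotMap_form]

theorem isoHom_mulVec (hQ : ∀ x, Q x = hbeta c (e x) (e x)) (φ : MulAut (Heis m c)) (x : ι → ZMod 2) :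
    (((isoHom e hQ φ).1 : GL ι (ZMod 2)) : Matrix ι ι (ZMod 2)) *ᵥ x = coordMap e φ x :=
  LinearMap.toMatrix'_mulVec _ x

theorem isoHom_ker (hQ : ∀ x, Q x = hbeta c (e x) (e x)) : (isoHom e hQ).ker = Cfsg.Inn (Heis m c) := by
  have : Fact (Nat.Prime 2) := ⟨Nat.prime_two⟩
  ext φ
  constructor
  · intro hφ
    rw [MonoidHom.mem_ker] at hφ
    have hid : ∀ v, quotMap φ v = v := fun v => by
      have h := isoHom_mulVec e hQ φ (e.symm v)
      rw [hφ, coordMap_apply, LinearEquiv.apply_symm_apply] at h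
      have h1 : e.symm v = e.symm (quotMap φ v) := by simpa using h
      exact (e.symm.injective h1).symm
    have hcen : ∀ x : Heis m c, φ x * x⁻¹ ∈ Subgroup.center (Heis m c) := fun x => by
      refine Subgroup.mem_center_iff.2 fun g => (comm_iff _ _).2 ?_
      have hv : (φ x * x⁻¹).v = 0 := by simp [mul_def, inv_def, apply_v, hid]
      rw [hv]; simp [hB]
    let f : Heis m c →* Heis m c := MonoidHom.mk' (fun x => φ x * x⁻¹) fun x y => by
      calc φ (x * y) * (x * y)⁻¹ = φ x * (φ y * y⁻¹) * x⁻¹ := by rw [map_mul]; group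
        _ = φ x * x⁻¹ * (φ y * y⁻¹) := by
          rw [mul_assoc (φ x) (φ y * y⁻¹), ← Subgroup.mem_center_iff.1 (hcen y) x⁻¹, ← mul_assoc]
    obtain ⟨g, -, hg⟩ := Fusion.es_hom_eq_commutator (extraspecial (m := m) (c := c)) f hcen
      (fun z hz => by
        have hzv : z.v = 0 := hB_nondeg fun w => (comm_iff z ⟨w, 0⟩).1
          (Subgroup.mem_center_iff.1 hz _).symm
        have hze : z = ⟨0, z.s⟩ := Heis.ext hzv rfl
        show φ z * z⁻¹ = 1
        rw [hze, central_fixed, mul_inv_cancel])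
      ⊤ le_top Fusion.es_top_nondeg
    refine ⟨g, MulEquiv.ext fun x => ?_⟩
    have h := hg x trivial
    change φ x * x⁻¹ = ⁅g, x⁆ at h
    rw [commutatorElement_def] at h
    show g * x * g⁻¹ = φ x
    exact (mul_right_cancel h).symm
  · rintro ⟨g, rfl⟩
    refine Subtype.ext (Units.ext (Matrix.ext_of_mulVec_single fun i => ?_))
    rw [isoHom_mulVec, coordMap_apply]
    have hid : quotMap (MulAut.conj g) (e (Pi.single i 1)) = e (Pi.single i 1) := by
      show (g * (⟨e (Pi.single i 1), 0⟩ : Heis m c) * g⁻¹).v = _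
      simp [mul_def, inv_def]
    rw [hid, LinearEquiv.symm_apply_apply]
    funext j
    simp [Matrix.one_apply, Pi.single_apply]

theorem isoHom_surjective (hQ : ∀ x, Q x = hbeta c (e x) (e x)) :
    Function.Surjective (isoHom e hQ) := by
  rintro ⟨G, hG⟩
  have hG' := (Classical.Quad.mem_isometryGroup_iff).1 hG
  let D : (ι → ZMod 2) →ₗ[ZMod 2] (ι → ZMod 2) →ₗ[ZMod 2] ZMod 2 :=
    LinearMap.mk₂ (ZMod 2)
      (fun x y => hbeta c (e (G.1 *ᵥ x)) (e (G.1 *ᵥ y)) + hbeta c (e x) (e y))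
      (fun a b y => by simp only [Matrix.mulVec_add, map_add, hbeta_add_left]; ring)
      (fun r a y => by
        rcases central_fixed.zmod2' r with rfl | rfl <;> simp [hbeta_zero_left])
      (fun x a b => by simp only [Matrix.mulVec_add, map_add, hbeta_add_right]; ring)
      (fun r x a => by
        rcases central_fixed.zmod2' r with rfl | rfl <;> simp [hbeta_zero_right])
  have hdiag : ∀ x, D x x = 0 := fun x => by
    show hbeta c _ _ + hbeta c _ _ = 0
    rw [← hQ, ← hQ, hG']
    exact zmod2_dblH _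
  let M := LinearMap.toMatrix₂' (ZMod 2) D
  have hM : ∀ x y, D x y = x ⬝ᵥ (M *ᵥ y) := fun x y => by
    conv_lhs => rw [← Matrix.toLinearMap₂'_toMatrix' (R := ZMod 2) D]
    rw [Matrix.toLinearMap₂'_apply']
  have hMd : ∀ i, M i i = 0 := fun i => by
    rw [show M i i = D (Pi.single i 1) (Pi.single i 1) from LinearMap.toMatrix₂'_apply D i i]
    exact hdiag _
  have hMs : ∀ i j, M i j = M j i := fun i j => by
    have h := hdiag (Pi.single i 1 + Pi.single j 1)
    simp only [map_add, LinearMap.add_apply, hdiag, zero_add, add_zero] at h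
    rw [show M i j = D (Pi.single i 1) (Pi.single j 1) from LinearMap.toMatrix₂'_apply D i j,
      show M j i = D (Pi.single j 1) (Pi.single i 1) from LinearMap.toMatrix₂'_apply D j i]
    exact (eq_of_add_zero _ _ h).symm
  let r := Fintype.equivFin ι
  let U : Matrix ι ι (ZMod 2) := Matrix.of fun i j => if r i < r j then M i j else 0
  have hU : U + Uᵀ = M := by
    ext i j
    simp only [Matrix.add_apply, Matrix.transpose_apply, Matrix.of_apply, U]
    rcases lt_trichotomy (r i) (r j) with h | h | h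
    · rw [if_pos h, if_neg (not_lt.2 h.le), add_zero]
    · rw [r.injective h, if_neg (lt_irrefl _), add_zero, hMd]
    · rw [if_neg (not_lt.2 h.le), if_pos h, zero_add, hMs]
  let μ : (ι → ZMod 2) → ZMod 2 := fun x => x ⬝ᵥ (U *ᵥ x)
  have hμ : ∀ x y, μ (x + y) = μ x + μ y + D x y := fun x y => by
    rw [hM, ← hU, Matrix.add_mulVec, dotProduct_add,
      show x ⬝ᵥ (Uᵀ *ᵥ y) = y ⬝ᵥ (U *ᵥ x) by
        rw [Matrix.mulVec_transpose, dotProduct_comm, ← Matrix.dotProduct_mulVec]]
    simp only [μ, Matrix.mulVec_add, dotProduct_add, add_dotProduct]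
    ring
  let f : Heis m c →* Heis m c :=
    MonoidHom.mk' (fun x => ⟨e (G.1 *ᵥ e.symm x.v), x.s + μ (e.symm x.v)⟩) fun x y => by
      refine Heis.ext ?_ ?_
      · simp [mul_def, Matrix.mulVec_add]
      · simp only [mul_def, map_add, hμ]
        show _ + (_ + _ + (hbeta c _ _ + hbeta c _ _)) = _
        rw [LinearEquiv.apply_symm_apply, LinearEquiv.apply_symm_apply]
        linear_combination zmod2_dblH (hbeta c x.v y.v)
  have hf : Function.Injective f := fun a b h => by
    have h1 := congrArg Heis.v h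
    have h2 := congrArg Heis.s h
    have h3 : a.v = b.v := e.symm.injective (Matrix.mulVec_injective_of_isUnit ⟨G, rfl⟩ (e.injective h1))
    simp only [f, MonoidHom.mk'_apply, h3] at h2
    exact Heis.ext h3 (add_right_cancel h2)
  let φ : MulAut (Heis m c) := MulEquiv.ofBijective f ⟨hf, Finite.injective_iff_surjective.1 hf⟩
  refine ⟨φ, Subtype.ext (Units.ext (Matrix.ext_of_mulVec_single fun i => ?_))⟩
  rw [isoHom_mulVec, coordMap_apply]
  show e.symm (e (G.1 *ᵥ e.symm (e (Pi.single i 1)))) = _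
  simp
where
  zmod2_dblH : ∀ a : ZMod 2, a + a = 0 := by decide
  eq_of_add_zero : ∀ a b : ZMod 2, a + b = 0 → a = b := by decide

/-- `Out` of an extraspecial 2-group is the isometry group of its form. -/
theorem out_equiv {E : Type*} [Group E] (ε : E ≃* Heis m c) (hQ : ∀ x, Q x = hbeta c (e x) (e x)) :
    Nonempty (Cfsg.Out E ≃* Cfsg.isometryGroup (ZMod 2) Q) := by
  let cg : MulAut E ≃* MulAut (Heis m c) :=
    { toFun := fun φ => (ε.symm.trans φ).trans ε
      invFun := fun φ => (ε.trans φ).trans ε.symm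
      left_inv := fun φ => MulEquiv.ext fun x => by simp
      right_inv := fun φ => MulEquiv.ext fun x => by simp
      map_mul' := fun φ ψ => MulEquiv.ext fun x => by simp [MulAut.mul_def] }
  let Ψ := (isoHom e hQ).comp cg.toMonoidHom
  have hsurj : Function.Surjective Ψ := (isoHom_surjective e hQ).comp cg.surjective
  have hker : Ψ.ker = Cfsg.Inn E := by
    ext φ
    rw [MonoidHom.mem_ker, MonoidHom.comp_apply, ← MonoidHom.mem_ker, isoHom_ker]
    constructor
    · rintro ⟨h, hh⟩
      refine ⟨ε.symm h, MulEquiv.ext fun x => ε.injective ?_⟩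
      have := congrArg (fun α : MulAut (Heis m c) => α (ε x)) hh
      simpa [cg] using this
    · rintro ⟨g, rfl⟩
      exact ⟨ε g, MulEquiv.ext fun x => by simp [cg]⟩
  exact ⟨(QuotientGroup.quotientMulEquivOfEq hker.symm).trans
    (QuotientGroup.quotientKerEquivOfSurjective Ψ hsurj)⟩

/-- Coordinates for the hyperbolic form. -/
def plusCoordH (m : ℕ) : (Fin (m + 1) ⊕ Fin (m + 1) → ZMod 2) ≃ₗ[ZMod 2] HV m :=
  LinearEquiv.sumArrowLequivProdArrow _ _ (ZMod 2) (ZMod 2)

theorem plusCoordH_form (m : ℕ) (x : Fin (m + 1) ⊕ Fin (m + 1) → ZMod 2) :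
    Cfsg.quadFormPlus (m + 1) (ZMod 2) x = hbeta 0 (plusCoordH m x) (plusCoordH m x) := by
  simp [Cfsg.quadFormPlus, hbeta, plusCoordH, dotProduct]

/-- Coordinates for the elliptic form. -/
def minusCoordH (m : ℕ) : ((Fin m ⊕ Fin m) ⊕ Fin 2 → ZMod 2) ≃ₗ[ZMod 2] HV m where
  toFun x := (Fin.cons (x (.inr 0)) fun i => x (.inl (.inl i)),
    Fin.cons (x (.inr 1)) fun i => x (.inl (.inr i)))
  map_add' x y := by
    refine Prod.ext ?_ ?_ <;> funext i <;> refine Fin.cases ?_ (fun j => ?_) i <;> simp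
  map_smul' r x := by
    refine Prod.ext ?_ ?_ <;> funext i <;> refine Fin.cases ?_ (fun j => ?_) i <;> simp
  invFun v := Sum.elim (Sum.elim (fun i => v.1 i.succ) (fun i => v.2 i.succ)) ![v.1 0, v.2 0]
  left_inv x := by
    funext i
    rcases i with (i | i) | i <;> [simp; simp; (fin_cases i <;> simp)]
  right_inv v := by
    refine Prod.ext ?_ ?_ <;> funext i <;> refine Fin.cases ?_ (fun j => ?_) i <;> simp

theorem minusCoordH_form (m : ℕ) (x : (Fin m ⊕ Fin m) ⊕ Fin 2 → ZMod 2) :
    Cfsg.quadFormMinus m (ZMod 2) 1 1 x = hbeta 1 (minusCoordH m x) (minusCoordH m x) := by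
  have h2 : ∀ a : ZMod 2, a ^ 2 = a * a := fun a => sq a
  have h3 : ∀ a : ZMod 2, a * a = a := by decide
  simp [Cfsg.quadFormMinus, hbeta, minusCoordH, dotProduct, Fin.sum_univ_succ, h2, h3]
  ring

end Cfsg.Agent.LargeExtra.Heis
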