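import Cfsg.Prelude.Def_Transfer
import Cfsg.Agent.ExtraPair.Basic
import Cfsg.Agent.Core.Frattini

/-!
# Extraspecial subgroups of extraspecial 2-groups
-/

set_option autoImplicit false

open Cfsg Subgroup
open scoped commutatorElement

namespace Cfsg.Agent.LargeExtra

/-- A non-abelian subgroup whose centre is central is extraspecial. -/
theorem extraspecial_sub {G : Type*} [Group G] [Finite G] {Q R : Subgroup G}
    (hQ : IsExtraspecial 2 ↥Q) (hR : R ≤ Q) (hna : ∃ a ∈ R, ∃ b ∈ R, a * b ≠ b * a)
    (hc : ∀ c ∈ R, (∀ r ∈ R, r * c = c * r) → c ∈ (center ↥Q).map Q.subtype) :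
    IsExtraspecial 2 ↥R := by
  have : Fact (Nat.Prime 2) := ⟨Nat.prime_two⟩
  have hRp : IsPGroup 2 ↥R := IsPGroup.of_injective hQ.1.1 (inclusion hR) (inclusion_injective hR)
  obtain ⟨a, ha, b, hb, hab⟩ := hna
  set w : ↥R := ⁅(⟨a, ha⟩ : ↥R), ⟨b, hb⟩⁆
  have hw1 : w ≠ 1 := fun h => hab
    (congrArg Subtype.val (commutatorElement_eq_one_iff_mul_comm.1 h))
  have hinto : ∀ c : ↥R, inclusion hR c ∈ center ↥Q → c ∈ center ↥R := fun c h =>
    mem_center_iff.2 fun r => inclusion_injective hR (by
      rw [map_mul, map_mul]; exact mem_center_iff.1 h _)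
  have hout : ∀ c ∈ center ↥R, inclusion hR c ∈ center ↥Q := by
    intro c h
    obtain ⟨d, hd, hdc⟩ := hc c c.2 fun r hr => congrArg Subtype.val (mem_center_iff.1 h ⟨r, hr⟩)
    rwa [show inclusion hR c = d from Subtype.ext hdc.symm]
  have hwQ : inclusion hR w ∈ center ↥Q := by
    rw [map_commutatorElement]; exact Fusion.es_commutator_mem hQ _ _
  have hwC : w ∈ center ↥R := hinto w hwQ
  have hwc : w ∈ commutator ↥R := commutator_mem_commutator (mem_top _) (mem_top _)
  have hcen : ∀ c ∈ center ↥R, c ∈ zpowers w := by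
    intro c h
    have hw' : inclusion hR w ≠ 1 := fun e => hw1 (inclusion_injective hR (by rw [e, map_one]))
    obtain ⟨k, hk⟩ := mem_zpowers_iff.1 ((Fusion.es_center_zpowers hQ hwQ hw').ge (hout c h))
    exact ⟨k, inclusion_injective hR ((map_zpow _ _ _).trans hk)⟩
  have hzle : zpowers w ≤ commutator ↥R := zpowers_le.2 hwc
  have hcomm : commutator ↥R = center ↥R := by
    refine le_antisymm ?_ fun c h => hzle (hcen c h)
    rw [commutator_def, commutator_le]
    intro x _ y _
    exact hinto _ (by rw [map_commutatorElement]; exact Fusion.es_commutator_mem hQ _ _)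
  refine ⟨⟨hRp, ?_, hcomm⟩, ?_⟩
  · have := hRp.isNilpotent
    refine le_antisymm ?_ (hcomm ▸ Core.commutator_le_frattini)
    intro x hx
    by_contra hxc
    have hxQ : inclusion hR x ∉ center ↥Q := fun h => hxc (hinto x h)
    obtain ⟨M, hZM, hxM, hidx⟩ := ExtraPair.exists_index_two hQ le_rfl hxQ
    set M' := M.comap (inclusion hR)
    have hM' : IsCoatom M' := by
      refine ⟨fun h => hxM ?_, fun K hK => ?_⟩
      · have : x ∈ M' := by rw [h]; exact mem_top x
        exact this
      · obtain ⟨y, hyK, hyM⟩ := SetLike.exists_of_lt hK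
        refine eq_top_iff.2 fun v _ => ?_
        by_cases hv : v ∈ M'
        · exact hK.le hv
        · have h1 : y⁻¹ * v ∈ M' := by
            show inclusion hR (y⁻¹ * v) ∈ M
            rw [map_mul, map_inv, mul_mem_iff_of_index_two hidx, inv_mem_iff]
            exact iff_of_false hyM hv
          have := K.mul_mem hyK (hK.le h1)
          rwa [mul_inv_cancel_left] at this
    exact hxM ((frattini_le_coatom hM') hx)
  · have : center ↥R = zpowers w := le_antisymm (fun c h => hcen c h) (zpowers_le.2 hwC)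
    rw [this, Nat.card_zpowers]
    refine orderOf_eq_prime ?_ hw1
    refine inclusion_injective hR ?_
    rw [map_pow, Fusion.es_center_pow hQ hwQ, map_one]

end Cfsg.Agent.LargeExtra
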