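import Mathlib
import Cfsg.Prelude.Def_MonsterType
import Cfsg.Agent.Core.PCore

/-! Large extraspecial 2-subgroups: elementary facts. -/

set_option autoImplicit false

namespace Cfsg.Agent.LargeExtra
open Cfsg Subgroup

variable {G : Type*} [Group G] [Finite G] {Q : Subgroup G}


theorem card_zc (h : IsExtraspecial 2 Q) : Nat.card ↥((center Q).map Q.subtype) = 2 := by
  rw [Nat.card_congr (equivMapOfInjective _ _ Q.subtype_injective).toEquiv.symm]
  exact h.2

theorem zc_le : (center Q).map Q.subtype ≤ Q := map_subtype_le _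

theorem le_centralizer_zc : Q ≤ centralizer (((center Q).map Q.subtype : Subgroup G) : Set G) := by
  intro q hq
  rw [mem_centralizer_iff]
  rintro _ ⟨z, hz, rfl⟩
  exact (congrArg Subtype.val (mem_center_iff.1 hz ⟨q, hq⟩)).symm

theorem commutator_mem {A B : Subgroup G} {a b : G} (ha : a ∈ A) (hb : b ∈ B)
    (han : a ∈ normalizer (B : Set G)) (hbn : b ∈ normalizer (A : Set G)) :
    a * b * a⁻¹ * b⁻¹ ∈ A ⊓ B := by
  refine ⟨?_, B.mul_mem ((mem_normalizer_iff.1 han b).1 hb) (B.inv_mem hb)⟩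
  rw [mul_assoc a, mul_assoc a]
  exact A.mul_mem ha ((mem_normalizer_iff.1 hbn a⁻¹).1 (A.inv_mem ha))

theorem commute_of_inf_eq_bot {A B : Subgroup G} {a b : G} (h : A ⊓ B = ⊥) (ha : a ∈ A)
    (hb : b ∈ B) (han : a ∈ normalizer (B : Set G)) (hbn : b ∈ normalizer (A : Set G)) :
    a * b = b * a := by
  have := commutator_mem ha hb han hbn
  rw [h, mem_bot, mul_inv_eq_one, mul_inv_eq_iff_eq_mul] at this
  exact this

theorem inf_eq_bot_of_odd {K P : Subgroup G} (hK : Odd (Nat.card K)) (hP : IsPGroup 2 P) :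
    K ⊓ P = ⊥ := by
  refine inf_eq_bot_of_coprime ?_
  obtain ⟨n, hn⟩ := IsPGroup.iff_card.1 hP
  rw [hn]
  exact Nat.Coprime.pow_right _ hK.coprime_two_right

/-- an odd subgroup normalised by `Q` and centralising `Z(Q)` is trivial -/
theorem eq_bot_of_centralizes (hE : IsExtraspecial 2 Q)
    (hC : centralizer (Q : Set G) = (center Q).map Q.subtype)
    (hN : centralizer (((center Q).map Q.subtype : Subgroup G) : Set G) ≤ normalizer (Q : Set G))
    {K : Subgroup G} (hK : Odd (Nat.card K)) (hQK : Q ≤ normalizer (K : Set G))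
    (hKZ : K ≤ centralizer (((center Q).map Q.subtype : Subgroup G) : Set G)) : K = ⊥ := by
  have hKQ : K ⊓ Q = ⊥ := inf_eq_bot_of_odd hK hE.1.1
  have hle : K ≤ (center Q).map Q.subtype := by
    rw [← hC]
    intro k hk
    rw [mem_centralizer_iff]
    exact fun q hq => (commute_of_inf_eq_bot hKQ hk hq (hN (hKZ hk)) (hQK hq)).symm
  exact le_bot_iff.1 (hKQ ▸ le_inf le_rfl (hle.trans zc_le))

end Cfsg.Agent.LargeExtra
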