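import Cfsg.Prelude.Def_Transfer
import Cfsg.Prelude.Def_Local
import Cfsg.Agent.Core.PCore
import Cfsg.Agent.ExtraPair.Basic

/-!
# Conjugates of `z` in `O_2(C(z))` when the latter is a self-centralising extraspecial group

Orthogonality is symmetric: if `x` is a conjugate of `z` in `O_2(C(z))` then `z ∈ O_2(C(x))`.
-/

set_option autoImplicit false
set_option maxHeartbeats 1000000

open Cfsg Subgroup
open scoped commutatorElement

namespace Cfsg.Agent.LargeExtra

section Abstract

variable {E : Type*} [Group E] [Finite E]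

theorem conjm {G : Type*} [Group G] (g a b : G) :
    g * a * g⁻¹ * (g * b * g⁻¹) = g * (a * b) * g⁻¹ := by group

theorem auto_fix_center (h : IsExtraspecial 2 E) (α : E ≃* E) {c : E} (hc : c ∈ center E) :
    α c = c := by
  have := Fact.mk Nat.prime_two
  by_cases h1 : c = 1
  · rw [h1, map_one]
  have hαc : α c ∈ center E := mem_center_iff.2 fun g => by
    rw [← α.apply_symm_apply g, ← map_mul, ← map_mul, mem_center_iff.1 hc]
  obtain ⟨k, hk⟩ := mem_zpowers_iff.1 ((Fusion.es_center_zpowers h hc h1).ge hαc)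
  have h2 : c * c = 1 := by rw [← sq]; exact Fusion.es_center_pow h hc
  rcases Int.even_or_odd' k with ⟨j, rfl | rfl⟩
  · rw [zpow_mul, zpow_two, h2, one_zpow] at hk
    exact absurd (α.map_eq_one_iff.1 hk.symm) h1
  · rwa [zpow_add_one, zpow_mul, zpow_two, h2, one_zpow, one_mul, eq_comm] at hk

/-- An element commuting with every `φ r * r⁻¹` is fixed by `φ` modulo the centre. -/
theorem fix_mod_center_of_commute (h : IsExtraspecial 2 E) (φ : E ≃* E) (hφ : ∀ y, φ (φ y) = y)
    {q : E} (hq : ∀ r, Commute q (φ r * r⁻¹)) : φ q * q⁻¹ ∈ center E := by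
  have := Fact.mk Nat.prime_two
  have hle := Fusion.es_commutator_le h
  have h2 : ∀ c ∈ center E, c * c = 1 := fun c hc => by rw [← sq]; exact Fusion.es_center_pow h hc
  refine mem_center_iff.2 fun r => ?_
  refine (commutatorElement_eq_one_iff_mul_comm.1 ?_).symm
  have h1 : ⁅φ q, r⁆ = ⁅q, r⁆ := by
    have e1 : ⁅φ q, r⁆ = φ ⁅q, φ r⁆ := by rw [map_commutatorElement, hφ]
    rw [e1, auto_fix_center h φ (Fusion.es_commutator_mem h _ _)]
    conv_lhs => rw [show φ r = φ r * r⁻¹ * r by group]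
    rw [Fusion.commutatorElement_mul_right_of_le_center hle,
      commutatorElement_eq_one_iff_mul_comm.2 (hq r).eq, one_mul]
  rw [Fusion.commutatorElement_mul_left_of_le_center hle, h1,
    ← zpow_neg_one q, Fusion.commutatorElement_zpow_left_of_le_center hle, zpow_neg_one,
    mul_inv_cancel]

/-- Two automorphisms which are central on the fixed points of an involutory automorphism `φ`
commute up to central automorphisms; so if `φ` is their commutator it is trivial. -/
theorem eq_id_of_commutator (h : IsExtraspecial 2 E) (φ α β : E ≃* E) (hφ : ∀ y, φ (φ y) = y)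
    (hfix : ∀ q, φ q * q⁻¹ ∈ center E → φ q = q)
    (hα : ∀ q, φ q = q → α q * q⁻¹ ∈ center E) (hβ : ∀ q, φ q = q → β q * q⁻¹ ∈ center E)
    (hcomm : ∀ q, α (β q) = φ (β (α q))) (q : E) : φ q = q := by
  have := Fact.mk Nat.prime_two
  have hle := Fusion.es_commutator_le h
  by_cases hne : ∀ y, φ y = y
  · exact hne q
  push Not at hne
  have hH : ∀ r, φ (φ r * r⁻¹) = φ r * r⁻¹ := fun r => hfix _
    ((ExtraPair.closure_eq_center h φ.toMonoidHom hφ hne _).1 (subset_closure ⟨r, rfl⟩)).1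
  have hw : ∀ (γ : E ≃* E), (∀ q, φ q = q → γ q * q⁻¹ ∈ center E) →
      ∀ q, φ (γ q * q⁻¹) = γ q * q⁻¹ := by
    intro γ hγ q
    refine hfix _ (fix_mod_center_of_commute h φ hφ fun r => ?_)
    have hu := hH r
    set u := φ r * r⁻¹
    refine commutatorElement_eq_one_iff_mul_comm.1 ?_
    have e1 : ⁅γ q, u⁆ = ⁅q, u⁆ := by
      have e0 : ⁅γ q, γ u⁆ = ⁅γ q, u⁆ := by
        conv_lhs => rw [show γ u = γ u * u⁻¹ * u by group]
        rw [Fusion.commutatorElement_mul_right_of_le_center hle,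
          commutatorElement_eq_one_iff_mul_comm.2 (mem_center_iff.1 (hγ u hu) _), one_mul]
      rw [← e0, ← map_commutatorElement, auto_fix_center h γ (Fusion.es_commutator_mem h _ _)]
    rw [Fusion.commutatorElement_mul_left_of_le_center hle, e1,
      ← zpow_neg_one q, Fusion.commutatorElement_zpow_left_of_le_center hle, zpow_neg_one,
      mul_inv_cancel]
  -- compare `α (β s)` with `β (α s)`
  let M := QuotientGroup.mk' (center E)
  have hM : ∀ (γ : E ≃* E) (v : E), φ v = v → γ v * v⁻¹ ∈ center E → M (γ v) = M v := by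
    intro γ v _ hv
    have h1 : M (γ v * v⁻¹) = 1 := (QuotientGroup.eq_one_iff _).2 hv
    rwa [map_mul, map_inv, mul_inv_eq_one] at h1
  have hsplit : ∀ (γ δ : E ≃* E), (∀ q, φ q = q → γ q * q⁻¹ ∈ center E) →
      (∀ q, φ q = q → δ q * q⁻¹ ∈ center E) → ∀ s,
      M (γ (δ s)) = M (δ s * s⁻¹) * M (γ s * s⁻¹) * M s := by
    intro γ δ hγ hδ s
    have h1 : γ (δ s) = γ (δ s * s⁻¹) * γ s := by rw [← map_mul, inv_mul_cancel_right]
    have h2 : M (γ s) = M (γ s * s⁻¹) * M s := by rw [← map_mul, inv_mul_cancel_right]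
    rw [h1, map_mul, hM γ _ (hw δ hδ s) (hγ _ (hw δ hδ s)), h2, mul_assoc]
  have habel : ∀ a b : E, M a * M b = M b * M a := by
    intro a b
    refine commutatorElement_eq_one_iff_mul_comm.1 ?_
    rw [← map_commutatorElement]
    exact (QuotientGroup.eq_one_iff _).2 (Fusion.es_commutator_mem h a b)
  obtain ⟨s, rfl⟩ : ∃ s, β (α s) = q := ⟨α.symm (β.symm q), by simp⟩
  refine hfix _ ?_
  rw [← hcomm]
  refine (QuotientGroup.eq_one_iff _).1 ?_
  show M (α (β s) * (β (α s))⁻¹) = 1
  rw [map_mul, map_inv, hsplit α β hα hβ, hsplit β α hβ hα, habel (β s * s⁻¹) (α s * s⁻¹),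
    mul_inv_cancel]

end Abstract

variable {G : Type*} [Group G] [Finite G]

/-- `O_2(C(x))` as a subgroup of the group. -/
def oc (x : G) : Subgroup G :=
  (pCore 2 ↥(centralizer ({x} : Set G))).map (centralizer ({x} : Set G)).subtype

theorem oc_le (x : G) : oc x ≤ centralizer ({x} : Set G) := map_subtype_le _

theorem oc_isPGroup (x : G) : IsPGroup 2 ↥(oc x) := Core.pCore_isPGroup.map _

theorem mem_oc_self {x : G} (hx : orderOf x = 2) : x ∈ oc x := by
  have hxC : x ∈ centralizer ({x} : Set G) := mem_centralizer_singleton_iff.2 rfl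
  set x' : ↥(centralizer ({x} : Set G)) := ⟨x, hxC⟩
  have hc : x' ∈ center ↥(centralizer ({x} : Set G)) :=
    mem_center_iff.2 fun g => Subtype.ext (mem_centralizer_singleton_iff.1 g.2)
  have : (zpowers x').Normal := by
    refine ⟨fun a ha g => ?_⟩
    have hac := (zpowers_le.2 hc) ha
    rwa [mem_center_iff.1 hac g, mul_inv_cancel_right]
  have := Fact.mk Nat.prime_two
  have hp : IsPGroup 2 (zpowers x') :=
    IsPGroup.of_card (n := 1) (by rw [Nat.card_zpowers, ← Subgroup.orderOf_coe]; simpa [x'] using hx)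
  exact ⟨x', Core.le_pCore hp (mem_zpowers x'), rfl⟩

theorem conj_mem_oc {g x c : G} (hc : c ∈ oc x) : g * c * g⁻¹ ∈ oc (g * x * g⁻¹) := by
  set C' := centralizer ({g * x * g⁻¹} : Set G) with hC'
  set N := (oc x).map (MulAut.conj g).toMonoidHom with hN
  have hNC : N ≤ C' := by
    rintro _ ⟨d, hd, rfl⟩
    rw [hC', mem_centralizer_singleton_iff]
    have h1 : d * x = x * d := mem_centralizer_singleton_iff.1 (oc_le x hd)
    show g * d * g⁻¹ * (g * x * g⁻¹) = g * x * g⁻¹ * (g * d * g⁻¹)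
    rw [conjm, conjm, h1]
  have : (N.subgroupOf C').Normal := by
    refine ⟨fun a ha h => ?_⟩
    obtain ⟨d, hd, hda⟩ := ha
    have hh : g⁻¹ * (h : G) * g ∈ centralizer ({x} : Set G) := by
      rw [mem_centralizer_singleton_iff]
      have h1 : (h : G) * (g * x * g⁻¹) = g * x * g⁻¹ * h := mem_centralizer_singleton_iff.1 h.2
      calc g⁻¹ * (h : G) * g * x = g⁻¹ * ((h : G) * (g * x * g⁻¹)) * g := by group
        _ = x * (g⁻¹ * (h : G) * g) := by rw [h1]; group
    obtain ⟨d', hd', rfl⟩ := hd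
    refine ⟨g⁻¹ * (h : G) * g * (d' : G) * (g⁻¹ * (h : G) * g)⁻¹,
      ⟨⟨_, hh⟩ * d' * ⟨_, hh⟩⁻¹, Normal.conj_mem inferInstance d' hd' _, rfl⟩, ?_⟩
    have hda' : g * (d' : G) * g⁻¹ = (a : G) := hda
    show g * (g⁻¹ * (h : G) * g * (d' : G) * (g⁻¹ * (h : G) * g)⁻¹) * g⁻¹
      = (h : G) * (a : G) * (h : G)⁻¹
    rw [← hda']
    group
  have hp : IsPGroup 2 ↥(N.subgroupOf C') :=
    IsPGroup.comap_of_injective ((oc_isPGroup x).map _) C'.subtype C'.subtype_injective
  have hmem : g * c * g⁻¹ ∈ N := ⟨c, hc, rfl⟩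
  exact ⟨⟨_, hNC hmem⟩, Core.le_pCore hp hmem, rfl⟩

theorem oc_conj_mem {h x c : G} (hh : h ∈ centralizer ({x} : Set G)) (hc : c ∈ oc x) :
    h * c * h⁻¹ ∈ oc x := by
  have h1 := conj_mem_oc (g := h) hc
  rwa [mem_centralizer_singleton_iff.1 hh, mul_inv_cancel_right] at h1

theorem oc_eq_of_isPGroup {x : G} (h : IsPGroup 2 ↥(centralizer ({x} : Set G))) :
    oc x = centralizer ({x} : Set G) := by
  rw [oc, Core.pCore_eq_top h, ← MonoidHom.range_eq_map, range_subtype]

theorem center_cases {Q : Subgroup G} (hE : IsExtraspecial 2 ↥Q) {z c : G} (hz1 : z ≠ 1)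
    (hzQ : z ∈ Q) (hzc : ∀ q ∈ Q, Commute q z) (hcQ : c ∈ Q) (hcc : ∀ q ∈ Q, Commute q c) :
    c = 1 ∨ c = z := by
  have := Fact.mk Nat.prime_two
  have hzZ : (⟨z, hzQ⟩ : ↥Q) ∈ center ↥Q := mem_center_iff.2 fun q => Subtype.ext (hzc q q.2)
  have hcZ : (⟨c, hcQ⟩ : ↥Q) ∈ center ↥Q := mem_center_iff.2 fun q => Subtype.ext (hcc q q.2)
  obtain ⟨k, hk⟩ := mem_zpowers_iff.1
    ((Fusion.es_center_zpowers hE hzZ fun e => hz1 (congrArg Subtype.val e)).ge hcZ)
  have hk' : z ^ k = c := congrArg Subtype.val hk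
  have hz2 : z * z = 1 := by
    have h2 := congrArg Subtype.val (Fusion.es_center_pow hE hzZ)
    rwa [SubmonoidClass.coe_pow, sq, OneMemClass.coe_one] at h2
  rcases Int.even_or_odd' k with ⟨j, rfl | rfl⟩
  · left; rw [← hk', zpow_mul, zpow_two, hz2, one_zpow]
  · right; rw [← hk', zpow_add_one, zpow_mul, zpow_two, hz2, one_zpow, one_mul]

theorem eq_of_odd_of_pow_fix {h f : G} {n : ℕ} (hodd : Odd (orderOf h))
    (hfix : Commute (h ^ (2 ^ n)) f) : Commute h f := by
  obtain ⟨m, hm⟩ := exists_pow_eq_self_of_coprime (x := h)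
    ((Nat.coprime_two_left.2 hodd).pow_left n)
  exact hm ▸ hfix.pow_left m

/-- Abstract setting: an extraspecial self-centralising normal subgroup `F z` of `C(z)`, with
conjugates `F (g z g⁻¹)`. -/
structure NSetting (F : G → Subgroup G) (z : G) : Prop where
  ord : orderOf z = 2
  mem_self : z ∈ F z
  le_cent : F z ≤ centralizer ({z} : Set G)
  es : IsExtraspecial 2 ↥(F z)
  cent : centralizer ((F z : Subgroup G) : Set G) ≤ F z
  conj_mem : ∀ {g x c : G}, c ∈ F x → g * c * g⁻¹ ∈ F (g * x * g⁻¹)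

namespace NSetting

variable {F : G → Subgroup G} {z : G} (S : NSetting F z)
include S

theorem le {q : G} (hq : q ∈ F z) : q ∈ centralizer ({z} : Set G) := S.le_cent hq

theorem le_conj {q g : G} (hq : q ∈ F z) : g * q * g⁻¹ ∈ centralizer ({g * z * g⁻¹} : Set G) := by
  rw [mem_centralizer_singleton_iff, conjm, conjm, mem_centralizer_singleton_iff.1 (S.le hq)]

theorem nrm {h x c : G} (hh : h ∈ centralizer ({x} : Set G)) (hc : c ∈ F x) :
    h * c * h⁻¹ ∈ F x := by
  have h1 := S.conj_mem (g := h) hc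
  rwa [mem_centralizer_singleton_iff.1 hh, mul_inv_cancel_right] at h1

theorem ne_one : z ≠ 1 := fun h => by have := S.ord; rw [h, orderOf_one] at this; omega

theorem sq_one : z * z = 1 := by rw [← sq, ← S.ord, pow_orderOf_eq_one]

theorem comm_z {q : G} (hq : q ∈ F z) : Commute q z :=
  mem_centralizer_singleton_iff.1 (S.le hq)

theorem center_cases {c : G} (hc : c ∈ F z) (hcc : ∀ q ∈ F z, Commute q c) : c = 1 ∨ c = z :=
  LargeExtra.center_cases S.es S.ne_one S.mem_self (fun _ hq => S.comm_z hq) hc hcc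

theorem commutator_cases {a b : G} (ha : a ∈ F z) (hb : b ∈ F z) :
    a * b * a⁻¹ * b⁻¹ = 1 ∨ a * b * a⁻¹ * b⁻¹ = z := by
  have := Fact.mk Nat.prime_two
  refine S.center_cases (mul_mem (mul_mem (mul_mem ha hb) (inv_mem ha)) (inv_mem hb)) fun q hq => ?_
  exact congrArg Subtype.val (mem_center_iff.1
    (Fusion.es_commutator_mem S.es (⟨a, ha⟩ : ↥(F z)) ⟨b, hb⟩) ⟨q, hq⟩)

/-- Conjugates of `z` inside `O_2(C(z))`: some element of it moves `x` to `x * z`. -/
theorem exists_mover {x : G} (hx : x ∈ F z) (hx1 : x ≠ 1) (hxz : x ≠ z) :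
    ∃ y ∈ F z, y * x * y⁻¹ = x * z := by
  by_contra hcon
  push Not at hcon
  have hc : ∀ q ∈ F z, Commute q x := by
    intro q hq
    rcases S.commutator_cases hq hx with h | h
    · exact commutatorElement_eq_one_iff_mul_comm.1 h
    · exfalso
      refine hcon q hq ?_
      rw [mul_inv_eq_iff_eq_mul] at h
      rw [h, (S.comm_z hx).eq]
  rcases S.center_cases hx hc with h | h
  · exact hx1 h
  · exact hxz h

/-- The small case: a non-central involution whose centraliser in `O_2(C(z))` is commutative. -/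
theorem isPGroup_of_comm {x : G} (hx : x ∈ F z) (hx2 : x * x = 1) (hx1 : x ≠ 1) (hxz : x ≠ z)
    (hab : ∀ a ∈ F z, ∀ b ∈ F z, Commute a x → Commute b x → Commute a b) :
    IsPGroup 2 ↥(centralizer ({z} : Set G)) := by
  have := Fact.mk Nat.prime_two
  obtain ⟨y, hy, hyx⟩ := S.exists_mover hx hx1 hxz
  have hzz := S.sq_one
  have hxzc : x * z = z * x := (S.comm_z hx).eq
  -- elements commuting with `x` lie in `⟨z, x⟩`
  let H : Subgroup G :=
    { carrier := {q | q = 1 ∨ q = z ∨ q = x ∨ q = x * z}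
      one_mem' := Or.inl rfl
      mul_mem' := by
        have e1 : z * x = x * z := hxzc.symm
        have e2 : x * z * (x * z) = 1 := by rw [mul_assoc, ← mul_assoc z, e1, mul_assoc, hzz, mul_one, hx2]
        have e3 : x * z * z = x := by rw [mul_assoc, hzz, mul_one]
        have e4 : z * (x * z) = x := by rw [← mul_assoc, e1, e3]
        have e5 : x * (x * z) = z := by rw [← mul_assoc, hx2, one_mul]
        have e6 : x * z * x = z := by rw [mul_assoc, e1, e5]
        rintro a b (rfl | rfl | rfl | rfl) (rfl | rfl | rfl | rfl) <;>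
          simp [Set.mem_ofPred_eq, e1, e2, e3, e4, e5, e6, hzz, hx2]
      inv_mem' := by
        rintro a (rfl | rfl | rfl | rfl)
        · exact Or.inl inv_one
        · exact Or.inr (Or.inl (inv_eq_of_mul_eq_one_right hzz))
        · exact Or.inr (Or.inr (Or.inl (inv_eq_of_mul_eq_one_right hx2)))
        · exact Or.inr (Or.inr (Or.inr (by
            rw [mul_inv_rev, inv_eq_of_mul_eq_one_right hzz, inv_eq_of_mul_eq_one_right hx2,
              ← hxzc]))) }
  have hP : ∀ q ∈ F z, Commute q x → q ∈ H := by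
    intro q hq hqx
    have hzH : center ↥(F z) ≤ H.subgroupOf (F z) := by
      intro c hc
      rcases S.center_cases c.2 fun q hq =>
        congrArg Subtype.val (mem_center_iff.1 hc ⟨q, hq⟩) with h | h
      · exact Or.inl h
      · exact Or.inr (Or.inl h)
    refine ExtraPair.centralizer_centralizer_le S.es hzH (x := ⟨q, hq⟩)
      (mem_centralizer_iff.2 fun p hp => Subtype.ext ?_)
    have hpx : Commute (p : G) x :=
      (congrArg Subtype.val
        (mem_centralizer_iff.1 hp ⟨x, hx⟩ (Or.inr (Or.inr (Or.inl rfl))))).symm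
    exact (hab p p.2 q hq hpx hqx).eq
  -- the squaring type of `y`
  have hy2 : y * y = 1 ∨ y * y = z := by
    refine S.center_cases (mul_mem hy hy) fun q hq => ?_
    have h1 := Fusion.es_pow_mem_center S.es (⟨y, hy⟩ : ↥(F z))
    rw [sq] at h1
    exact congrArg Subtype.val (mem_center_iff.1 h1 ⟨q, hq⟩)
  have hyx' : y * x = x * z * y := mul_inv_eq_iff_eq_mul.1 hyx
  obtain ⟨f, hf, hff, hfx, hfy⟩ : ∃ f ∈ F z, f * f = z ∧ f * x * f⁻¹ = x * z ∧
      (y = f ∨ y = x * f) := by
    rcases hy2 with h | h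
    · refine ⟨x * y, mul_mem hx hy, ?_, ?_, Or.inr (by rw [← mul_assoc, hx2, one_mul])⟩
      · rw [mul_assoc, ← mul_assoc y, hyx', mul_assoc (x * z), h, mul_one, ← mul_assoc, hx2,
          one_mul]
      · rw [mul_inv_rev, show x * y * x * (y⁻¹ * x⁻¹) = x * (y * x * y⁻¹) * x⁻¹ by group, hyx,
          ← mul_assoc x x z, hx2, one_mul, inv_eq_of_mul_eq_one_right hx2, ← hxzc]
    · exact ⟨y, hy, h, hyx, Or.inl rfl⟩
  have hfz : Commute f z := S.comm_z hf
  -- normal form
  have hform : ∀ q ∈ F z, q ∈ zpowers f ∨ x * q ∈ zpowers f := by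
    intro q hq
    have hfm := mem_zpowers f
    have hzf : z ∈ zpowers f := by rw [← hff]; exact mul_mem hfm hfm
    by_cases hqx : Commute q x
    · rcases hP q hq hqx with rfl | rfl | rfl | rfl
      · exact Or.inl (one_mem _)
      · exact Or.inl hzf
      · exact Or.inr (by rw [hx2]; exact one_mem _)
      · exact Or.inr (by rw [← mul_assoc, hx2, one_mul]; exact hzf)
    · have h1 : q * x * q⁻¹ * x⁻¹ = z := (S.commutator_cases hq hx).resolve_left fun h =>
        hqx (commutatorElement_eq_one_iff_mul_comm.1 h)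
      rw [mul_inv_eq_iff_eq_mul, mul_inv_eq_iff_eq_mul] at h1
      have hfx' : f * x = x * z * f := mul_inv_eq_iff_eq_mul.1 hfx
      have h2 : Commute (f⁻¹ * q) x := by
        show f⁻¹ * q * x = x * (f⁻¹ * q)
        have h3 : f⁻¹ * (x * z) = x * f⁻¹ := by
          calc f⁻¹ * (x * z) = f⁻¹ * (x * z * f) * f⁻¹ := by group
            _ = x * f⁻¹ := by rw [← hfx']; group
        calc f⁻¹ * q * x = f⁻¹ * (x * z) * q := by rw [mul_assoc, h1, ← hxzc, ← mul_assoc]
          _ = x * (f⁻¹ * q) := by rw [h3, mul_assoc]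
      obtain ⟨k, hk, rfl⟩ : ∃ k ∈ H, q = f * k :=
        ⟨f⁻¹ * q, hP _ (mul_mem (inv_mem hf) hq) h2, (mul_inv_cancel_left f q).symm⟩
      rcases hk with rfl | rfl | rfl | rfl
      · exact Or.inl (by simpa using hfm)
      · exact Or.inl (mul_mem hfm hzf)
      · refine Or.inr ?_
        rw [hfx', ← mul_assoc, ← mul_assoc, hx2, one_mul]
        exact mul_mem hzf hfm
      · refine Or.inr ?_
        rw [← mul_assoc f, hfx', ← mul_assoc, ← mul_assoc, ← mul_assoc, hx2, one_mul]
        exact mul_mem (mul_mem hzf hfm) hzf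
  have hfx1 : x ∉ zpowers f := by
    intro h
    obtain ⟨k, hk⟩ := mem_zpowers_iff.1 h
    have hc : Commute f x := hk ▸ (Commute.refl f).zpow_right k
    rw [hc.eq, mul_inv_cancel_right] at hfx
    exact S.ne_one (left_eq_mul.1 hfx)
  refine IsPGroup.iff_card.2 ⟨(Nat.card ↥(centralizer ({z} : Set G))).primeFactorsList.length, ?_⟩
  refine Nat.eq_prime_pow_of_unique_prime_dvd Nat.card_pos.ne' fun {p} hp hpdvd => ?_
  by_contra hp2
  have := Fact.mk hp
  obtain ⟨h, hh⟩ := exists_prime_orderOf_dvd_card' p hpdvd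
  have hodd : Odd (orderOf (h : G)) := by
    rw [Subgroup.orderOf_coe, hh]; exact hp.odd_of_ne_two hp2
  have hn : ∀ {q : G}, q ∈ F z → (h : G) * q * (h : G)⁻¹ ∈ F z := fun hq => S.nrm h.2 hq
  have hhz : Commute (h : G) z := mem_centralizer_singleton_iff.1 h.2
  have hhf : Commute (h : G) f := by
    have hc2 : (h : G) * f * (h : G)⁻¹ * ((h : G) * f * (h : G)⁻¹) = z := by
      rw [conjm, hff, hhz.eq, mul_inv_cancel_right]
    have hcase : ∃ k : ℤ, (h : G) * f * (h : G)⁻¹ = f ^ k := by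
      rcases hform _ (hn hf) with hc | hc
      · obtain ⟨k, hk⟩ := mem_zpowers_iff.1 hc; exact ⟨k, hk.symm⟩
      · exfalso
        obtain ⟨k, hk⟩ := mem_zpowers_iff.1 hc
        have hval : (h : G) * f * (h : G)⁻¹ = x * f ^ k := by
          rw [hk, ← mul_assoc, hx2, one_mul]
        rw [hval] at hc2
        have gen : ∀ w a : G, Commute w x → Commute w a →
            x * (w * a) * (x * (w * a)) = w * w * (x * a * (x * a)) := fun w a c1 c2 => by
          rw [← mul_assoc x w a, ← c1.eq, mul_assoc w x a]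
          exact (c1.mul_right c2).symm.mul_mul_mul_comm _ _
        have hzj : ∀ j : ℤ, z ^ j * z ^ j = 1 := fun j => by
          rw [← (Commute.refl z).mul_zpow, hzz, one_zpow]
        rcases Int.even_or_odd' k with ⟨j, rfl | rfl⟩
        · rw [show f ^ (2 * j) = z ^ j * 1 by rw [mul_one, zpow_mul, zpow_two, hff],
            gen _ _ ((S.comm_z hx).zpow_right j).symm (Commute.one_right _), hzj, one_mul, mul_one,
            hx2] at hc2
          exact S.ne_one hc2.symm
        · have e2 : x * f * (x * f) = 1 := by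
            rw [mul_assoc, ← mul_assoc f, mul_inv_eq_iff_eq_mul.1 hfx, mul_assoc (x * z), hff,
              mul_assoc x, hzz, mul_one, hx2]
          rw [show f ^ (2 * j + 1) = z ^ j * f by rw [zpow_add_one, zpow_mul, zpow_two, hff],
            gen _ _ ((S.comm_z hx).zpow_right j).symm (hfz.zpow_right j).symm, hzj, e2,
            one_mul] at hc2
          exact S.ne_one hc2.symm
    obtain ⟨k, hk⟩ := hcase
    refine eq_of_odd_of_pow_fix (n := 1) hodd ?_
    have e : ((h : G) ^ 2) * f * ((h : G) ^ 2)⁻¹ = f ^ (k * k) := by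
      rw [sq, mul_inv_rev, show (h : G) * h * f * ((h : G)⁻¹ * (h : G)⁻¹)
        = h * (h * f * (h : G)⁻¹) * (h : G)⁻¹ by group, hk, ← conj_zpow, hk, ← zpow_mul]
    have hf4 : f ^ (4 : ℤ) = 1 := by
      rw [show (4 : ℤ) = 2 * 2 from rfl, zpow_mul, zpow_two, zpow_two, hff, hzz]
    have hf2 : f ^ (2 : ℤ) = z := by rw [zpow_two, hff]
    rcases Int.even_or_odd' k with ⟨j, rfl | rfl⟩
    · exfalso
      rw [hk, ← zpow_add, show 2 * j + 2 * j = 4 * j by ring, zpow_mul, hf4, one_zpow] at hc2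
      exact S.ne_one hc2.symm
    · rw [show (2 * j + 1) * (2 * j + 1) = 4 * (j * j + j) + 1 by ring, zpow_add_one, zpow_mul,
        hf4, one_zpow, one_mul] at e
      exact mul_inv_eq_iff_eq_mul.1 e
  have hhx : Commute (h : G) x := by
    refine eq_of_odd_of_pow_fix (n := 2) hodd ?_
    obtain ⟨k, hk⟩ : ∃ k : ℤ, (h : G) * x * (h : G)⁻¹ = x * f ^ k := by
      rcases hform _ (hn hx) with hc | hc
      · exfalso
        obtain ⟨k, hk⟩ := mem_zpowers_iff.1 hc
        refine hfx1 ⟨k, ?_⟩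
        show f ^ k = x
        calc f ^ k = (h : G)⁻¹ * (f ^ k) * h := by
              rw [(hhf.inv_left.zpow_right k).eq, inv_mul_cancel_right]
          _ = x := by rw [hk]; group
      · obtain ⟨k, hk⟩ := mem_zpowers_iff.1 hc
        exact ⟨k, by rw [hk, ← mul_assoc, hx2, one_mul]⟩
    have hit : ∀ n : ℕ, (h : G) ^ n * x * ((h : G) ^ n)⁻¹ = x * f ^ ((n : ℤ) * k) := by
      intro n
      induction n with
      | zero => simp
      | succ n ih =>
        rw [pow_succ', mul_inv_rev, show (h : G) * (h : G) ^ n * x * (((h : G) ^ n)⁻¹ * (h : G)⁻¹)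
          = h * ((h : G) ^ n * x * ((h : G) ^ n)⁻¹) * (h : G)⁻¹ by group, ih, ← conjm, hk,
          (hhf.zpow_right _).eq, mul_inv_cancel_right, mul_assoc x, ← zpow_add]
        push_cast
        ring_nf
    have h4 := hit 4
    rw [Nat.cast_ofNat, zpow_mul, show (4 : ℤ) = 2 * 2 from rfl, zpow_mul, zpow_two,
      zpow_two, hff, hzz, one_zpow, mul_one] at h4
    exact mul_inv_eq_iff_eq_mul.1 h4
  have hhC : (h : G) ∈ F z := S.cent (mem_centralizer_iff.2 fun q hq => by
    have hkey : ∀ c ∈ zpowers f, Commute (h : G) c := by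
      rintro c ⟨k, rfl⟩; exact hhf.zpow_right k
    rcases hform q hq with hc | hc
    · exact (hkey q hc).eq.symm
    · have := hhx.mul_right (hkey _ hc)
      rw [← mul_assoc, hx2, one_mul] at this
      exact this.eq.symm)
  obtain ⟨n, hn2⟩ := IsPGroup.iff_orderOf.1 (S.es.1.1) ⟨h, hhC⟩
  have hn3 : orderOf (h : G) = 2 ^ n := by rw [← hn2]; exact Subgroup.orderOf_coe (⟨(h : G), hhC⟩ : ↥(F z))
  rcases Nat.eq_zero_or_pos n with rfl | hpos
  · rw [Subgroup.orderOf_coe, hh, pow_zero] at hn3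
    exact hp.one_lt.ne' hn3
  · rw [hn3] at hodd
    exact Nat.not_odd_iff_even.2 ((Nat.even_pow' hpos.ne').2 even_two) hodd

/-- Conjugation by an element normalising `O_2(C(z))`. -/
def conjEquiv {c : G} (hc : c ∈ centralizer ({z} : Set G)) : ↥(F z) ≃* ↥(F z) where
  toFun q := ⟨c * q * c⁻¹, S.nrm hc q.2⟩
  invFun q := ⟨c⁻¹ * q * c, by simpa using S.nrm (inv_mem hc) q.2⟩
  left_inv q := Subtype.ext (by simp [mul_assoc])
  right_inv q := Subtype.ext (by simp [mul_assoc])
  map_mul' q r := Subtype.ext (by simp [mul_assoc])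

theorem conj_sq_fix {u : G} (hu2 : u * u = 1) (huc : u ∈ centralizer ({z} : Set G))
    (q : ↥(F z)) : S.conjEquiv huc (S.conjEquiv huc q) = q := by
  apply Subtype.ext
  show u * (u * (q : G) * u⁻¹) * u⁻¹ = q
  rw [show u * (u * (q : G) * u⁻¹) * u⁻¹ = u * u * q * (u * u)⁻¹ by group, hu2, one_mul, inv_one,
    mul_one]

/-- An involution `u` of `C(z)` which is a commutator of two elements of `C(u) ∩ C(z)` acting
centrally on the fixed points, and moves no element to its translate by `z`, lies in `O_2(C(z))`. -/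
theorem mem_of_commutator {u a b : G} (hu2 : u * u = 1) (huc : u ∈ centralizer ({z} : Set G))
    (hac : a ∈ centralizer ({z} : Set G)) (hbc : b ∈ centralizer ({z} : Set G))
    (hab : a * b * a⁻¹ * b⁻¹ = u)
    (hno : ∀ q ∈ F z, u * q * u⁻¹ * q⁻¹ = z → False)
    (hA : ∀ q ∈ F z, Commute u q → ∀ c ∈ ({a, b} : Set G),
      c * q * c⁻¹ * q⁻¹ = 1 ∨ c * q * c⁻¹ * q⁻¹ = z) : u ∈ F z := by
  have hzero : ∀ w : ↥(F z), ((w : G) = 1 ∨ (w : G) = z) → w ∈ center ↥(F z) := fun w hw =>
    mem_center_iff.2 fun q => Subtype.ext (by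
      show (q : G) * (w : G) = (w : G) * q
      rcases hw with h | h
      · rw [h, one_mul, mul_one]
      · rw [h, (S.comm_z q.2).eq])
  have hcomm : ∀ q, S.conjEquiv hac (S.conjEquiv hbc q)
      = S.conjEquiv huc (S.conjEquiv hbc (S.conjEquiv hac q)) := fun q => Subtype.ext (by
    show a * (b * (q : G) * b⁻¹) * a⁻¹ = u * (b * (a * q * a⁻¹) * b⁻¹) * u⁻¹
    rw [← hab]; group)
  have hkey := eq_id_of_commutator S.es (S.conjEquiv huc) (S.conjEquiv hac) (S.conjEquiv hbc)
    (S.conj_sq_fix hu2 huc) ?_ ?_ ?_ hcomm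
  · refine S.cent (mem_centralizer_iff.2 fun q hq => ?_)
    have h : u * q * u⁻¹ = q := congrArg Subtype.val (hkey ⟨q, hq⟩)
    exact (mul_inv_eq_iff_eq_mul.1 h).symm
  · intro q hq
    rcases S.center_cases (S.conjEquiv huc q * q⁻¹).2 (fun r hr =>
      congrArg Subtype.val (mem_center_iff.1 hq ⟨r, hr⟩)) with h | h
    · exact mul_inv_eq_one.1 (Subtype.ext h)
    · exact (hno q q.2 h).elim
  · intro q hq
    have h : u * (q : G) * u⁻¹ = q := congrArg Subtype.val hq
    exact hzero _ (hA q q.2 (mul_inv_eq_iff_eq_mul.1 h) a (Or.inl rfl))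
  · intro q hq
    have h : u * (q : G) * u⁻¹ = q := congrArg Subtype.val hq
    exact hzero _ (hA q q.2 (mul_inv_eq_iff_eq_mul.1 h) b (Or.inr rfl))

/-- Orthogonality is symmetric. -/
theorem symm {g : G} (hx : g * z * g⁻¹ ∈ F z)
    (hsmall : (∀ a ∈ F z, ∀ b ∈ F z, Commute a (g * z * g⁻¹) → Commute b (g * z * g⁻¹) →
      Commute a b) → z ∈ F (g * z * g⁻¹)) : z ∈ F (g * z * g⁻¹) := by
  obtain ⟨x, hxdef⟩ : ∃ x, x = g * z * g⁻¹ := ⟨_, rfl⟩
  rw [← hxdef] at hx hsmall ⊢
  by_cases hxz : x = z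
  · rw [hxz]; exact S.mem_self
  have hx1 : x ≠ 1 := fun h => S.ne_one (by
    rw [hxdef, mul_inv_eq_one] at h
    exact mul_eq_left.1 h)
  have hzz := S.sq_one
  have hx2 : x * x = 1 := by rw [hxdef, conjm, hzz, mul_one, mul_inv_cancel]
  have hxc : Commute x z := S.comm_z hx
  have hzx : z ∈ centralizer ({x} : Set G) := mem_centralizer_singleton_iff.2 hxc.symm.eq
  by_contra hz
  obtain ⟨y, hy, hyx⟩ := S.exists_mover hx hx1 hxz
  have hxz' : z ∉ F (x * z) := by
    intro h
    apply hz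
    have h1 := S.conj_mem (g := y⁻¹) h
    rw [inv_inv, ← hyx] at h1
    rw [show y⁻¹ * (y * x * y⁻¹) * y = x by group, mul_assoc, ← (S.comm_z hy).eq,
      inv_mul_cancel_left] at h1
    exact h1
  have hno : ∀ r ∈ centralizer ({x} : Set G), r * z * r⁻¹ = z * x → False := by
    intro r hr hrz
    apply hxz'
    have hrx : r * x * r⁻¹ = x := by
      rw [mem_centralizer_singleton_iff.1 hr, mul_inv_cancel_right]
    have h1 := S.conj_mem (g := r) (mul_mem hx S.mem_self)
    rw [← conjm, hrx, hrz, ← mul_assoc, hxc.eq, mul_assoc, hx2, mul_one] at h1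
    rwa [hxc.eq]
  -- common elements
  have hE : ∀ e ∈ F z, e ∈ F x → e = 1 ∨ e = x := by
    intro e he hex
    let H : Subgroup G := closure {z, x}
    have hzH : center ↥(F z) ≤ H.subgroupOf (F z) := by
      intro c hc
      rcases S.center_cases c.2 fun q hq =>
        congrArg Subtype.val (mem_center_iff.1 hc ⟨q, hq⟩) with h | h
      · exact (mem_subgroupOf).2 (by rw [h]; exact one_mem _)
      · exact (mem_subgroupOf).2 (by rw [h]; exact subset_closure (Or.inl rfl))
    have heH : e ∈ H := by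
      refine ExtraPair.centralizer_centralizer_le S.es hzH (x := ⟨e, he⟩)
        (mem_centralizer_iff.2 fun p hp => Subtype.ext ?_)
      show (p : G) * e = e * p
      have hpx : Commute x (p : G) := congrArg Subtype.val
        (mem_centralizer_iff.1 hp ⟨x, hx⟩ (subset_closure (Or.inr rfl)))
      have hpX : (p : G) ∈ centralizer ({x} : Set G) := mem_centralizer_singleton_iff.2 hpx.symm.eq
      have hcm : e * (p : G) * e⁻¹ * (p : G)⁻¹ ∈ F x := by
        have := mul_mem hex (inv_mem (S.nrm hpX hex))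
        simpa [mul_assoc] using this
      rcases S.commutator_cases he p.2 with h | h
      · exact (commutatorElement_eq_one_iff_mul_comm.1 h).symm
      · rw [h] at hcm; exact absurd hcm hz
    have hH : ∀ c ∈ H, c = 1 ∨ c = z ∨ c = x ∨ c = x * z := by
      intro c hc
      induction hc using closure_induction with
      | mem c hc =>
        rcases hc with rfl | rfl
        · exact Or.inr (Or.inl rfl)
        · exact Or.inr (Or.inr (Or.inl rfl))
      | one => exact Or.inl rfl
      | mul a b _ _ ha hb =>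
        have e1 : z * x = x * z := hxc.symm.eq
        have e2 : x * z * (x * z) = 1 := by
          rw [mul_assoc, ← mul_assoc z, e1, mul_assoc, hzz, mul_one, hx2]
        have e3 : x * z * z = x := by rw [mul_assoc, hzz, mul_one]
        have e4 : z * (x * z) = x := by rw [← mul_assoc, e1, e3]
        have e5 : x * (x * z) = z := by rw [← mul_assoc, hx2, one_mul]
        have e6 : x * z * x = z := by rw [mul_assoc, e1, e5]
        rcases ha with rfl | rfl | rfl | rfl <;> rcases hb with rfl | rfl | rfl | rfl <;>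
          simp [e1, e2, e3, e4, e5, e6, hzz, hx2]
      | inv a _ ha =>
        rcases ha with rfl | rfl | rfl | rfl
        · exact Or.inl inv_one
        · exact Or.inr (Or.inl (inv_eq_of_mul_eq_one_right hzz))
        · exact Or.inr (Or.inr (Or.inl (inv_eq_of_mul_eq_one_right hx2)))
        · exact Or.inr (Or.inr (Or.inr (by
            rw [mul_inv_rev, inv_eq_of_mul_eq_one_right hzz, inv_eq_of_mul_eq_one_right hx2,
              ← hxc.eq])))
    rcases hH e heH with h | h | h | h
    · exact Or.inl h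
    · exact absurd (h ▸ hex) hz
    · exact Or.inr h
    · refine absurd ?_ hz
      have hxo : x ∈ F x := hxdef ▸ S.conj_mem S.mem_self
      have := mul_mem hxo (h ▸ hex)
      rwa [← mul_assoc, hx2, one_mul] at this
  by_cases hab : ∀ a ∈ F z, ∀ b ∈ F z, Commute a x → Commute b x → Commute a b
  · exact hz (hsmall hab)
  push Not at hab
  obtain ⟨a, ha, b, hb, hax, hbx, hnab⟩ := hab
  have habz : a * b * a⁻¹ * b⁻¹ = z := (S.commutator_cases ha hb).resolve_left
    fun h => hnab (commutatorElement_eq_one_iff_mul_comm.1 h)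
  -- transport to `z`
  have toC : ∀ c : G, Commute c x → g⁻¹ * c * g ∈ centralizer ({z} : Set G) := fun c hc => by
    rw [mem_centralizer_singleton_iff]
    calc g⁻¹ * c * g * z = g⁻¹ * (c * x) * g := by rw [hxdef]; group
      _ = z * (g⁻¹ * c * g) := by rw [hc.eq, hxdef]; group
  have back : ∀ q ∈ F z, g * q * g⁻¹ ∈ F x := fun q hq => hxdef ▸ S.conj_mem hq
  have hu := S.mem_of_commutator (u := g⁻¹ * z * g) (a := g⁻¹ * a * g) (b := g⁻¹ * b * g)
    (by rw [show g⁻¹ * z * g * (g⁻¹ * z * g) = g⁻¹ * (z * z) * g by group, hzz]; group)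
    (toC z hxc.symm) (toC a hax) (toC b hbx)
    (by
      calc g⁻¹ * a * g * (g⁻¹ * b * g) * (g⁻¹ * a * g)⁻¹ * (g⁻¹ * b * g)⁻¹
          = g⁻¹ * (a * b * a⁻¹ * b⁻¹) * g := by group
        _ = g⁻¹ * z * g := by rw [habz])
    ?_ ?_
  · exact hz (by simpa [mul_assoc] using back _ hu)
  · intro q hq he
    set r := g * q * g⁻¹ with hr
    have hzr : z * r * z⁻¹ * r⁻¹ = x := by
      calc z * r * z⁻¹ * r⁻¹ = g * (g⁻¹ * z * g * q * (g⁻¹ * z * g)⁻¹ * q⁻¹) * g⁻¹ := by
            rw [hr]; group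
        _ = x := by rw [he, hxdef]
    refine hno r (hxdef ▸ S.le_conj hq) ?_
    have hxx : x⁻¹ = x := inv_eq_of_mul_eq_one_right hx2
    have h1 : r * z * r⁻¹ * z⁻¹ = x := by
      rw [show r * z * r⁻¹ * z⁻¹ = (z * r * z⁻¹ * r⁻¹)⁻¹ by group, hzr, hxx]
    rw [mul_inv_eq_iff_eq_mul.1 h1, hxc.eq]
  · intro q hq huq c hc
    obtain ⟨d, hd, hdx, rfl⟩ : ∃ d ∈ F z, Commute d x ∧ c = g⁻¹ * d * g := by
      rcases hc with rfl | rfl
      · exact ⟨a, ha, hax, rfl⟩
      · exact ⟨b, hb, hbx, rfl⟩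
    set r := g * q * g⁻¹ with hr
    have hzr : Commute z r := by
      have := (Commute.conj_iff g).2 huq
      rwa [show g * (g⁻¹ * z * g) * g⁻¹ = z by group] at this
    have hrz : r ∈ centralizer ({z} : Set G) := mem_centralizer_singleton_iff.2 hzr.symm.eq
    have hcm1 : d * r * d⁻¹ * r⁻¹ ∈ F x :=
      mul_mem (S.nrm (mem_centralizer_singleton_iff.2 hdx.eq) (back q hq))
        (inv_mem (back q hq))
    have hcm2 : d * r * d⁻¹ * r⁻¹ ∈ F z := by
      have := mul_mem hd (S.nrm hrz (inv_mem hd))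
      simpa [mul_assoc] using this
    rcases hE _ hcm2 hcm1 with h | h
    · left
      calc g⁻¹ * d * g * q * (g⁻¹ * d * g)⁻¹ * q⁻¹ = g⁻¹ * (d * r * d⁻¹ * r⁻¹) * g := by
            rw [hr]; group
        _ = 1 := by rw [h]; group
    · right
      calc g⁻¹ * d * g * q * (g⁻¹ * d * g)⁻¹ * q⁻¹ = g⁻¹ * (d * r * d⁻¹ * r⁻¹) * g := by
            rw [hr]; group
        _ = z := by rw [h, hxdef]; group

end NSetting

/-- Setting: `z` an involution with `O_2(C(z))` extraspecial and self-centralising. -/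
structure Setting (z : G) : Prop where
  ord : orderOf z = 2
  es : IsExtraspecial 2 ↥(oc z)
  cent : centralizer ((oc z : Subgroup G) : Set G) ≤ oc z

namespace Setting

variable {z : G} (S : Setting z)
include S

theorem core : NSetting oc z :=
  ⟨S.ord, mem_oc_self S.ord, oc_le z, S.es, S.cent, fun hc => conj_mem_oc hc⟩

theorem ne_one : z ≠ 1 := S.core.ne_one

theorem sq_one : z * z = 1 := S.core.sq_one

theorem comm_z {q : G} (hq : q ∈ oc z) : Commute q z := S.core.comm_z hq

theorem center_cases {c : G} (hc : c ∈ oc z) (hcc : ∀ q ∈ oc z, Commute q c) : c = 1 ∨ c = z :=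
  S.core.center_cases hc hcc

theorem commutator_cases {a b : G} (ha : a ∈ oc z) (hb : b ∈ oc z) :
    a * b * a⁻¹ * b⁻¹ = 1 ∨ a * b * a⁻¹ * b⁻¹ = z := S.core.commutator_cases ha hb

theorem exists_mover {x : G} (hx : x ∈ oc z) (hx1 : x ≠ 1) (hxz : x ≠ z) :
    ∃ y ∈ oc z, y * x * y⁻¹ = x * z := S.core.exists_mover hx hx1 hxz

/-- Orthogonality is symmetric. -/
theorem symm {g : G} (hx : g * z * g⁻¹ ∈ oc z) : z ∈ oc (g * z * g⁻¹) := by
  refine S.core.symm hx fun hab => ?_
  by_cases hxz : g * z * g⁻¹ = z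
  · rw [hxz]; exact mem_oc_self S.ord
  have hx1 : g * z * g⁻¹ ≠ 1 := fun h => S.ne_one (by
    rw [mul_inv_eq_one] at h
    exact mul_eq_left.1 h)
  have hx2 : g * z * g⁻¹ * (g * z * g⁻¹) = 1 := by
    rw [conjm, S.sq_one, mul_one, mul_inv_cancel]
  have h2 := S.core.isPGroup_of_comm hx hx2 hx1 hxz hab
  have hxc : g * z * g⁻¹ * z = z * (g * z * g⁻¹) := (S.comm_z hx).eq
  have h3 := conj_mem_oc (g := g) (x := z) (c := g⁻¹ * z * g) (by
    rw [oc_eq_of_isPGroup h2, mem_centralizer_singleton_iff]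
    calc g⁻¹ * z * g * z = g⁻¹ * (z * (g * z * g⁻¹)) * g := by group
      _ = g⁻¹ * ((g * z * g⁻¹) * z) * g := by rw [hxc]
      _ = z * (g⁻¹ * z * g) := by group)
  rwa [show g * (g⁻¹ * z * g) * g⁻¹ = z by group] at h3

end Setting

end Cfsg.Agent.LargeExtra
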