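import Mathlib
import Cfsg.Agent.LargeExtra.Quotient
import Cfsg.Agent.Core.PCore
import Cfsg.Agent.Coprime.Tools

/-!
# The centralizer of an involution of the affine group `2^(n+1) : GL (n+1, 2)`
-/

namespace Cfsg.Agent.LargeExtra

open Subgroup

/-- The natural module. -/
abbrev AV (k : ℕ) := Fin k → ZMod 2

/-- Its automorphism group. -/
abbrev AL (k : ℕ) := AV k ≃ₗ[ZMod 2] AV k

theorem zmod2_cases : ∀ a : ZMod 2, a = 0 ∨ a = 1 := by decide

theorem zmod2_dbl : ∀ a : ZMod 2, a + a = 0 := by decide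

/-- An involution moving one nonzero vector to another. -/
theorem exists_move {k : ℕ} {v w : AV k} (hv : v ≠ 0) (hw : w ≠ 0) : ∃ g : AL k, g v = w := by
  obtain ⟨f, hfv, hfw⟩ : ∃ f : AV k →ₗ[ZMod 2] ZMod 2, f v = 1 ∧ f w = 1 := by
    by_cases h : ∃ i, v i = 1 ∧ w i = 1
    · obtain ⟨i, hi, hi'⟩ := h; exact ⟨LinearMap.proj i, hi, hi'⟩
    · push Not at h
      obtain ⟨i, hi⟩ : ∃ i, v i = 1 := by
        by_contra hc; push Not at hc
        exact hv (funext fun i => (zmod2_cases (v i)).resolve_right (hc i))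
      obtain ⟨j, hj⟩ : ∃ j, w j = 1 := by
        by_contra hc; push Not at hc
        exact hw (funext fun i => (zmod2_cases (w i)).resolve_right (hc i))
      have h1 : w i = 0 := (zmod2_cases (w i)).resolve_right (h i hi)
      have h2 : v j = 0 := (zmod2_cases (v j)).resolve_right fun e => h j e hj
      exact ⟨(LinearMap.proj i : AV k →ₗ[ZMod 2] ZMod 2) + LinearMap.proj j, by show v i + v j = 1; rw [hi, h2, add_zero],
        by show w i + w j = 1; rw [hj, h1, zero_add]⟩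
  let T : AV k →ₗ[ZMod 2] AV k := LinearMap.id + f.smulRight (v + w)
  have hT : Function.Involutive T := fun x => by
    have h0 : f (v + w) = 0 := by rw [map_add, hfv, hfw]; rfl
    show x + f x • (v + w) + f (x + f x • (v + w)) • (v + w) = x
    rw [map_add, map_smul, h0, smul_zero, add_zero, add_assoc, ← add_smul, zmod2_dbl, zero_smul, add_zero]
  refine ⟨LinearEquiv.ofInvolutive T hT, ?_⟩
  show T v = w
  funext i
  simp only [T, LinearMap.add_apply, LinearMap.id_coe, id_eq, LinearMap.smulRight_apply, hfv, one_smul,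
    Pi.add_apply]
  linear_combination zmod2_dbl (v i)

/-- `GL (k, 2)` has trivial 2-core. -/
theorem eq_one_of_normal_two {k : ℕ} (N : Subgroup (AL k)) [N.Normal] (hN : IsPGroup 2 ↥N) {g : AL k}
    (hg : g ∈ N) : g = 1 := by
  have : Fact (Nat.Prime 2) := ⟨Nat.prime_two⟩
  rcases Nat.eq_zero_or_pos k with rfl | hk
  · exact LinearEquiv.ext fun x => Subsingleton.elim _ _
  have hmod := hN.card_modEq_card_fixedPoints (AV k)
  have hev : 2 ∣ Nat.card (MulAction.fixedPoints ↥N (AV k)) := by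
    refine Nat.modEq_zero_iff_dvd.1 (hmod.symm.trans (Nat.modEq_zero_iff_dvd.2 ?_))
    rw [Nat.card_fun, Nat.card_zmod, Nat.card_eq_fintype_card, Fintype.card_fin]
    exact dvd_pow_self 2 hk.ne'
  have h0 : (0 : AV k) ∈ MulAction.fixedPoints ↥N (AV k) := fun a => map_zero (a : AL k)
  have hnt : ∃ v ∈ MulAction.fixedPoints ↥N (AV k), v ≠ 0 := by
    by_contra hc
    push Not at hc
    have : Nat.card (MulAction.fixedPoints ↥N (AV k)) = 1 :=
      Nat.card_eq_one_iff_unique.2 ⟨⟨fun a b => Subtype.ext ((hc a a.2).trans (hc b b.2).symm)⟩, ⟨⟨0, h0⟩⟩⟩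
    omega
  obtain ⟨v, hv, hv0⟩ := hnt
  refine LinearEquiv.ext fun w => ?_
  by_cases hw : w = 0
  · subst hw; exact map_zero g
  obtain ⟨h, rfl⟩ := exists_move hv0 hw
  have h1 : h⁻¹ * g * h ∈ N := by
    simpa using (inferInstance : N.Normal).conj_mem g hg h⁻¹
  have h2 : (h⁻¹ * g * h) v = v := hv ⟨_, h1⟩
  calc g (h v) = (h * (h⁻¹ * g * h)) v := by rw [← mul_assoc, ← mul_assoc, mul_inv_cancel, one_mul]; rfl
    _ = h ((h⁻¹ * g * h) v) := rfl
    _ = h v := by rw [h2]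

variable {n : ℕ}

/-- The distinguished vector. -/
def ae0 : AV (n + 1) := Pi.single 0 1

theorem ae0_ne : (ae0 : AV (n + 1)) ≠ 0 := fun h => by
  have := congrFun h 0; simp [ae0] at this

theorem cons_ae0 : Fin.cons (1 : ZMod 2) (0 : AV n) = (ae0 : AV (n + 1)) := by
  funext i; refine Fin.cases ?_ ?_ i <;> simp [ae0]

theorem cons_eq (a : ZMod 2) (w : AV n) :
    (Fin.cons a w : AV (n + 1)) = a • ae0 + Fin.cons 0 w := by
  funext i; refine Fin.cases ?_ ?_ i <;> simp [ae0]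

/-- The transvection attached to a functional. -/
def atv (l : AV n) : AL (n + 1) :=
  LinearEquiv.ofInvolutive
    { toFun := fun v => v + (∑ i, l i * v i.succ) • ae0
      map_add' := fun a b => by
        funext j
        simp only [Pi.add_apply, mul_add, Finset.sum_add_distrib, Pi.smul_apply, smul_eq_mul]; ring
      map_smul' := fun c a => by
        funext j
        simp only [Pi.smul_apply, smul_eq_mul, RingHom.id_apply, Pi.add_apply, Finset.mul_sum]
        rw [mul_add, ← mul_assoc, Finset.mul_sum]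
        congr 1
        rw [Finset.sum_mul, Finset.sum_mul]
        exact Finset.sum_congr rfl fun i _ => by ring }
    (fun v => by
      funext j
      simp only [LinearMap.coe_mk, AddHom.coe_mk, Pi.add_apply, Pi.smul_apply, smul_eq_mul]
      have : ∀ i : Fin n, (ae0 : AV (n + 1)) i.succ = 0 := fun i => by simp [ae0]
      simp only [this, mul_zero, add_zero]
      linear_combination zmod2_dbl ((∑ i, l i * v i.succ) * ae0 j))

theorem atv_apply (l : AV n) (v : AV (n + 1)) : atv l v = v + (∑ i, l i * v i.succ) • ae0 := rfl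

/-- The stabiliser of the distinguished vector. -/
def aS : Subgroup (AL (n + 1)) where
  carrier := {g | g ae0 = ae0}
  one_mem' := rfl
  mul_mem' := fun {a b} (ha : a ae0 = ae0) (hb : b ae0 = ae0) => show a (b ae0) = ae0 by rw [hb, ha]
  inv_mem' := fun {a} (ha : a ae0 = ae0) => show a.symm ae0 = ae0 by
    rw [LinearEquiv.symm_apply_eq, ha]

/-- Its elements trivial modulo the vector. -/
def aT : Subgroup (AL (n + 1)) where
  carrier := {g | g ae0 = ae0 ∧ ∀ v, ∃ c : ZMod 2, g v = v + c • ae0}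
  one_mem' := ⟨rfl, fun v => ⟨0, by simp⟩⟩
  mul_mem' := fun {a b} ha hb => ⟨show a (b ae0) = ae0 by rw [hb.1, ha.1], fun v => by
    obtain ⟨c, hc⟩ := hb.2 v; obtain ⟨d, hd⟩ := ha.2 v
    exact ⟨d + c, show a (b v) = _ by rw [hc, map_add, map_smul, hd, ha.1, add_smul, add_assoc]⟩⟩
  inv_mem' := fun {a} ha => ⟨show a.symm ae0 = ae0 by rw [LinearEquiv.symm_apply_eq, ha.1], fun v => by
    obtain ⟨c, hc⟩ := ha.2 v
    refine ⟨-c, show a.symm v = _ from ?_⟩
    rw [LinearEquiv.symm_apply_eq, map_add, map_smul, hc, ha.1]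
    simp only [ZMod.neg_eq_self_mod_two]
    rw [add_assoc, ← add_smul, zmod2_dbl, zero_smul, add_zero]⟩

theorem atv_mem (l : AV n) : atv l ∈ (aT : Subgroup (AL (n + 1))) := by
  refine ⟨?_, fun v => ⟨_, atv_apply l v⟩⟩
  rw [atv_apply]; simp [ae0]

theorem conj_mem_aT {g h : AL (n + 1)} (hg : g ∈ (aT : Subgroup (AL (n + 1)))) (hh : h ∈ (aS : Subgroup (AL (n + 1)))) :
    h * g * h⁻¹ ∈ (aT : Subgroup (AL (n + 1))) := by
  have hh' : h⁻¹ ae0 = ae0 := (aS : Subgroup (AL (n + 1))).inv_mem hh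
  refine ⟨show h (g (h⁻¹ ae0)) = ae0 by rw [hh', hg.1]; exact hh, fun v => ?_⟩
  obtain ⟨c, hc⟩ := hg.2 (h⁻¹ v)
  refine ⟨c, show h (g (h⁻¹ v)) = _ from ?_⟩
  rw [hc, map_add, map_smul, (hh : h ae0 = ae0)]
  exact congrArg (· + c • ae0) (h.apply_symm_apply v)

theorem aT_sq {g : AL (n + 1)} (hg : g ∈ (aT : Subgroup (AL (n + 1)))) : g * g = 1 := by
  refine LinearEquiv.ext fun v => ?_
  obtain ⟨c, hc⟩ := hg.2 v
  show g (g v) = v
  rw [hc, map_add, map_smul, hc, hg.1, add_assoc, ← add_smul, zmod2_dbl, zero_smul, add_zero]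

theorem aT_eq_range : (aT : Subgroup (AL (n + 1))).carrier = Set.range atv := by
  ext g
  refine ⟨fun hg => ?_, by rintro ⟨l, rfl⟩; exact atv_mem l⟩
  refine ⟨fun i => (g (Pi.single i.succ 1)) 0, ?_⟩
  refine LinearEquiv.toLinearMap_injective ((Pi.basisFun (ZMod 2) (Fin (n + 1))).ext fun j => ?_)
  simp only [Pi.basisFun_apply, LinearEquiv.coe_coe, atv_apply]
  refine Fin.cases ?_ (fun i => ?_) j
  · rw [show g (Pi.single 0 1) = ae0 from hg.1]; simp [ae0]
  · obtain ⟨c, hc⟩ := hg.2 (Pi.single i.succ 1)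
    rw [Finset.sum_eq_single i (fun b _ hb => by simp [Pi.single_apply, hb]) (by simp)]
    simp only [Pi.single_eq_same, mul_one]
    rw [hc]
    have h0 : (0 : Fin (n + 1)) ≠ i.succ := (Fin.succ_ne_zero i).symm
    simp [ae0, Pi.single_apply, h0]

theorem card_aT : Nat.card ↥(aT : Subgroup (AL (n + 1))) = 2 ^ n := by
  have hinj : Function.Injective (atv : AV n → AL (n + 1)) := fun a b h => funext fun i => by
    have e := congrFun (congrArg (fun g : AL (n + 1) => g (Pi.single i.succ 1)) h) 0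
    simpa [atv_apply, ae0, Pi.single_apply] using e
  show Nat.card ↥((aT : Subgroup (AL (n + 1))).carrier) = 2 ^ n
  rw [aT_eq_range, Nat.card_range_of_injective hinj, Nat.card_fun, Nat.card_zmod, Nat.card_eq_fintype_card,
    Fintype.card_fin]

/-- The Levi complement. -/
def akap : AL n →* AL (n + 1) where
  toFun A :=
    { toFun := fun v => Fin.cons (v 0) (A (Fin.tail v))
      map_add' := fun a b => by
        funext j; refine Fin.cases ?_ (fun i => ?_) j
        · simp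
        · simp only [Pi.add_apply, Fin.cons_succ]
          rw [show Fin.tail (a + b) = Fin.tail a + Fin.tail b from rfl, map_add]; rfl
      map_smul' := fun c a => by
        funext j; refine Fin.cases ?_ (fun i => ?_) j
        · simp
        · simp only [Pi.smul_apply, Fin.cons_succ, RingHom.id_apply]
          rw [show Fin.tail (c • a) = c • Fin.tail a from rfl, map_smul]; rfl
      invFun := fun v => Fin.cons (v 0) (A.symm (Fin.tail v))
      left_inv := fun v => by simp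
      right_inv := fun v => by simp }
  map_one' := by
    refine LinearEquiv.ext fun v => ?_
    show Fin.cons (v 0) (Fin.tail v) = v
    exact Fin.cons_self_tail v
  map_mul' A B := by
    refine LinearEquiv.ext fun v => ?_
    show (Fin.cons (v 0) ((A * B) (Fin.tail v)) : AV (n + 1)) =
      Fin.cons ((Fin.cons (v 0) (B (Fin.tail v)) : AV (n + 1)) 0)
        (A (Fin.tail (Fin.cons (v 0) (B (Fin.tail v)) : AV (n + 1))))
    rw [Fin.tail_cons, Fin.cons_zero]; rfl

theorem akap_apply (A : AL n) (v : AV (n + 1)) : akap A v = Fin.cons (v 0) (A (Fin.tail v)) := rfl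

theorem akap_injective : Function.Injective (akap : AL n → AL (n + 1)) := fun A B h =>
  LinearEquiv.ext fun w => by
    have := congrArg (fun g : AL (n + 1) => Fin.tail (g (Fin.cons 0 w))) h
    simpa [akap_apply] using this

theorem akap_mem (A : AL n) : akap A ∈ (aS : Subgroup (AL (n + 1))) := by
  show akap A ae0 = ae0
  rw [← cons_ae0, akap_apply, Fin.tail_cons, map_zero, Fin.cons_zero]

theorem akap_mem_aT {A : AL n} (h : akap A ∈ (aT : Subgroup (AL (n + 1)))) : A = 1 :=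
  LinearEquiv.ext fun w => by
    obtain ⟨c, hc⟩ := h.2 (Fin.cons 0 w)
    have := congrArg Fin.tail hc
    rw [akap_apply, Fin.tail_cons, Fin.tail_cons] at this
    rw [this]
    funext i
    simp [Fin.tail, ae0]

/-- Every element of the stabiliser is a transvection times a Levi element. -/
theorem aS_decomp {g : AL (n + 1)} (hg : g ∈ (aS : Subgroup (AL (n + 1)))) :
    ∃ A : AL n, g * (akap A)⁻¹ ∈ (aT : Subgroup (AL (n + 1))) := by
  let f : AV n →ₗ[ZMod 2] AV n :=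
    { toFun := fun w => Fin.tail (g (Fin.cons 0 w))
      map_add' := fun a b => by
        rw [show (Fin.cons 0 (a + b) : AV (n + 1)) = Fin.cons 0 a + Fin.cons 0 b from
          funext fun i => by refine Fin.cases ?_ ?_ i <;> simp, map_add]; rfl
      map_smul' := fun c a => by
        rw [show (Fin.cons 0 (c • a) : AV (n + 1)) = c • Fin.cons 0 a from
          funext fun i => by refine Fin.cases ?_ ?_ i <;> simp, map_smul]; rfl }
  have hf : Function.Injective f := by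
    rw [injective_iff_map_eq_zero]
    intro w hw
    have e : g (Fin.cons 0 w) = g ((g (Fin.cons 0 w) 0) • ae0) := by
      rw [map_smul, (hg : g ae0 = ae0)]
      funext i
      refine Fin.cases ?_ (fun j => ?_) i
      · simp [ae0]
      · have : Fin.tail (g (Fin.cons 0 w)) j = 0 := congrFun hw j
        simpa [ae0, Fin.tail] using this
    funext j
    have := congrFun (g.injective e) j.succ
    simpa [ae0] using this
  let A : AL n := LinearEquiv.ofBijective f ⟨hf, LinearMap.surjective_of_injective hf⟩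
  refine ⟨A, (aS : Subgroup (AL (n + 1))).mul_mem hg ((aS : Subgroup (AL (n + 1))).inv_mem (akap_mem A)),
    fun v => ?_⟩
  obtain ⟨u, rfl⟩ : ∃ u, akap A u = v := (akap A).surjective v
  refine ⟨(g u) 0 + u 0, ?_⟩
  show g ((akap A).symm (akap A u)) = _
  rw [LinearEquiv.symm_apply_apply, akap_apply]
  funext i
  refine Fin.cases ?_ (fun j => ?_) i
  · simp only [Pi.add_apply, Fin.cons_zero, Pi.smul_apply, ae0, Pi.single_eq_same, smul_eq_mul, mul_one]
    linear_combination zmod2_dbl (u 0) * (-1)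
  · have e : g u = u 0 • ae0 + g (Fin.cons 0 (Fin.tail u)) := by
      conv_lhs => rw [← Fin.cons_self_tail u, cons_eq, map_add, map_smul, (hg : g ae0 = ae0)]
    have := congrFun e j.succ
    simp only [Pi.add_apply, Fin.cons_succ, Pi.smul_apply, ae0] at this ⊢
    rw [this]
    simp [A, f]
    rfl

variable {G : Type*} [Group G] [Finite G]

/-- An affine group inside `G` containing the centralisers of its translations. -/
structure AffineSetup (n : ℕ) (G : Type*) [Group G] where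
  ι : Multiplicative (AV (n + 1)) →* G
  μ : AL (n + 1) →* G
  ιinj : Function.Injective ι
  μinj : Function.Injective μ
  compat : ∀ g v, μ g * ι (.ofAdd v) * (μ g)⁻¹ = ι (.ofAdd (g v))
  disj : ι.range ⊓ μ.range = ⊥
  cent : ∀ v, v ≠ 0 → centralizer ({ι (.ofAdd v)} : Set G) ≤ ι.range ⊔ μ.range

namespace AffineSetup

variable (S : AffineSetup n G)

/-- The translation subgroup. -/
def U : Subgroup G := S.ι.range

/-- The involution. -/
def z : G := S.ι (.ofAdd ae0)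

/-- The extraspecial subgroup. -/
def Q : Subgroup G := S.ι.range ⊔ (aT : Subgroup (AL (n + 1))).map S.μ

/-- The complement. -/
def K : Subgroup G := (S.μ.comp akap).range

theorem conj_ι (g : AL (n + 1)) (v : AV (n + 1)) :
    S.μ g * S.ι (.ofAdd v) = S.ι (.ofAdd (g v)) * S.μ g := mul_inv_eq_iff_eq_mul.1 (S.compat g v)

theorem le_normalizer (H : Subgroup (AL (n + 1))) : H.map S.μ ≤ normalizer (S.ι.range : Set G) := by
  rintro _ ⟨g, -, rfl⟩
  refine mem_normalizer_iff.2 fun x => ⟨?_, ?_⟩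
  · rintro ⟨v, rfl⟩
    exact ⟨.ofAdd (g v.toAdd), by rw [← S.compat]; rfl⟩
  · rintro ⟨v, hv⟩
    refine ⟨.ofAdd (g⁻¹ v.toAdd), ?_⟩
    rw [← S.compat, map_inv, show Multiplicative.ofAdd v.toAdd = v from rfl, hv]
    group

theorem mem_sup {H : Subgroup (AL (n + 1))} {x : G} :
    x ∈ S.ι.range ⊔ H.map S.μ ↔ ∃ v, ∃ g ∈ H, x = S.ι (.ofAdd v) * S.μ g := by
  rw [Coprime.mem_sup_of_le_normalizer (S.le_normalizer H)]
  constructor
  · rintro ⟨_, ⟨v, rfl⟩, _, ⟨g, hg, rfl⟩, rfl⟩; exact ⟨v.toAdd, g, hg, rfl⟩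
  · rintro ⟨v, g, hg, rfl⟩; exact ⟨_, ⟨_, rfl⟩, _, ⟨g, hg, rfl⟩, rfl⟩

theorem mem_Q {x : G} :
    x ∈ S.Q ↔ ∃ v, ∃ g ∈ (aT : Subgroup (AL (n + 1))), x = S.ι (.ofAdd v) * S.μ g := S.mem_sup

theorem unique {v w : AV (n + 1)} {g h : AL (n + 1)}
    (e : S.ι (.ofAdd v) * S.μ g = S.ι (.ofAdd w) * S.μ h) : v = w ∧ g = h := by
  have h1 : (S.ι (.ofAdd w))⁻¹ * S.ι (.ofAdd v) ∈ S.ι.range ⊓ S.μ.range := by
    refine ⟨Subgroup.mul_mem _ (Subgroup.inv_mem _ ⟨_, rfl⟩) ⟨_, rfl⟩, ⟨h * g⁻¹, ?_⟩⟩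
    rw [map_mul, map_inv, eq_inv_mul_iff_mul_eq, ← mul_assoc, ← e, mul_inv_cancel_right]
  rw [S.disj, Subgroup.mem_bot, inv_mul_eq_one] at h1
  rw [← h1] at e
  exact ⟨Multiplicative.ofAdd.injective (S.ιinj h1).symm, S.μinj (mul_left_cancel e)⟩

theorem mem_cent {x : G} : x ∈ centralizer ({S.z} : Set G) ↔
    ∃ v, ∃ g ∈ (aS : Subgroup (AL (n + 1))), x = S.ι (.ofAdd v) * S.μ g := by
  constructor
  · intro hx
    have h1 := S.cent ae0 ae0_ne hx
    rw [MonoidHom.range_eq_map S.μ, S.mem_sup] at h1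
    obtain ⟨v, g, -, rfl⟩ := h1
    refine ⟨v, g, ?_, rfl⟩
    have h2 := mem_centralizer_singleton_iff.1 hx
    have h3 : S.ι (.ofAdd (v + g ae0)) * S.μ g = S.ι (.ofAdd (ae0 + v)) * S.μ g := by
      rw [ofAdd_add, ofAdd_add, map_mul, map_mul, mul_assoc, ← S.conj_ι, ← mul_assoc]
      exact h2.trans (mul_assoc _ _ _).symm
    have h4 := (S.unique h3).1
    rw [add_comm ae0 v] at h4
    exact add_left_cancel h4
  · rintro ⟨v, g, hg, rfl⟩
    refine mem_centralizer_singleton_iff.2 ?_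
    show S.ι _ * S.μ g * S.ι (.ofAdd ae0) = S.ι (.ofAdd ae0) * (S.ι _ * S.μ g)
    rw [mul_assoc, S.conj_ι, (hg : g ae0 = ae0), ← mul_assoc, ← map_mul, mul_comm, map_mul, mul_assoc]

theorem Q_le : S.Q ≤ centralizer ({S.z} : Set G) := by
  intro x hx
  obtain ⟨v, g, hg, rfl⟩ := S.mem_Q.1 hx
  exact S.mem_cent.2 ⟨v, g, hg.1, rfl⟩

theorem card_Q : Nat.card ↥S.Q = 2 ^ (2 * n + 1) := by
  let f : AV (n + 1) × ↥(aT : Subgroup (AL (n + 1))) → ↥S.Q :=
    fun p => ⟨S.ι (.ofAdd p.1) * S.μ p.2, S.mem_Q.2 ⟨p.1, p.2, p.2.2, rfl⟩⟩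
  have hf : Function.Bijective f := by
    refine ⟨fun p q h => ?_, fun x => ?_⟩
    · obtain ⟨h1, h2⟩ := S.unique (congrArg Subtype.val h)
      exact Prod.ext h1 (Subtype.ext h2)
    · obtain ⟨v, g, hg, hx⟩ := S.mem_Q.1 x.2
      exact ⟨(v, ⟨g, hg⟩), Subtype.ext hx.symm⟩
  rw [← Nat.card_congr (Equiv.ofBijective f hf), Nat.card_prod, card_aT, Nat.card_fun, Nat.card_zmod,
    Nat.card_eq_fintype_card, Fintype.card_fin, ← pow_add]
  congr 1; omega

theorem sq_z {x : G} (hx : x ∈ S.Q) : x * x = 1 ∨ x * x = S.z := by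
  obtain ⟨v, g, hg, rfl⟩ := S.mem_Q.1 hx
  have e : S.ι (.ofAdd v) * S.μ g * (S.ι (.ofAdd v) * S.μ g) = S.ι (.ofAdd (v + g v)) := by
    rw [ofAdd_add, map_mul, mul_assoc, ← mul_assoc (S.μ g), S.conj_ι, mul_assoc, ← map_mul, aT_sq hg,
      map_one, mul_one]
  obtain ⟨c, hc⟩ := hg.2 v
  have e2 : v + g v = c • ae0 := by
    rw [hc]; funext i
    simp only [Pi.add_apply]
    linear_combination zmod2_dbl (v i)
  rw [e, e2]
  rcases zmod2_cases c with rfl | rfl
  · left; simp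
  · right; rw [one_smul]; rfl

theorem centralizer_Q : centralizer (S.Q : Set G) = zpowers S.z := by
  refine le_antisymm (fun x hx => ?_) (zpowers_le.2 (mem_centralizer_iff.2 fun q hq =>
    mem_centralizer_singleton_iff.1 (S.Q_le hq)))
  have hzQ : S.z ∈ S.Q := le_sup_left (α := Subgroup G) ⟨_, rfl⟩
  obtain ⟨v, g, -, rfl⟩ := S.mem_cent.1 (mem_centralizer_singleton_iff.2 (mem_centralizer_iff.1 hx _ hzQ).symm)
  have hg1 : g = 1 := LinearEquiv.ext fun w => by
    have h1 := mem_centralizer_iff.1 hx (S.ι (.ofAdd w))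
      (le_sup_left (α := Subgroup G) ⟨_, rfl⟩)
    have h2 : S.ι (.ofAdd (w + v)) * S.μ g = S.ι (.ofAdd (v + g w)) * S.μ g := by
      rw [ofAdd_add, ofAdd_add, map_mul, map_mul, mul_assoc, h1, mul_assoc, S.conj_ι, ← mul_assoc]
    have := (S.unique h2).1
    rw [add_comm w v] at this
    exact (add_left_cancel this).symm
  subst hg1
  have hv : ∀ l : AV n, atv l v = v := fun l => by
    have h1 := mem_centralizer_iff.1 hx (S.μ (atv l))
      (le_sup_right (α := Subgroup G) ⟨_, atv_mem l, rfl⟩)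
    rw [map_one, mul_one, S.conj_ι] at h1
    exact Multiplicative.ofAdd.injective (S.ιinj (mul_right_cancel h1))
  have htail : ∀ i : Fin n, v i.succ = 0 := fun i => by
    have := congrFun (hv (Pi.single i 1)) 0
    simpa [atv_apply, ae0, Pi.single_apply] using this
  have hve : v = v 0 • ae0 := by
    funext j; refine Fin.cases ?_ (fun i => ?_) j
    · simp [ae0]
    · simp [ae0, htail]
  rw [map_one, mul_one, hve]
  rcases zmod2_cases (v 0) with e | e <;> rw [e]
  · simp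
  · rw [one_smul]; exact mem_zpowers _

theorem extraspecial (hn : 1 ≤ n) : IsExtraspecial 2 ↥S.Q := by
  have : Fact (Nat.Prime 2) := ⟨Nat.prime_two⟩
  have hzQ : S.z ∈ S.Q := le_sup_left (α := Subgroup G) ⟨_, rfl⟩
  have hz1 : S.z ≠ 1 := fun e => ae0_ne (Multiplicative.ofAdd.injective (S.ιinj (e.trans S.ι.map_one.symm)))
  have hzz : S.z * S.z = 1 := by
    rw [z, ← map_mul, ← ofAdd_add, show (ae0 : AV (n + 1)) + ae0 = 0 from funext fun i => zmod2_dbl _]
    exact map_one _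
  have hc : ∀ q ∈ S.Q, Commute q S.z := fun q hq => mem_centralizer_singleton_iff.1 (S.Q_le hq)
  have hsq := fun q hq => S.sq_z (x := q) hq
  have hzp : ∀ x, x ∈ zpowers S.z → x = 1 ∨ x = S.z := fun x hx => by
    obtain ⟨k, hk⟩ := mem_zpowers_iff.1 hx
    rcases Int.even_or_odd' k with ⟨j, rfl | rfl⟩
    · left; rw [← hk, zpow_mul, zpow_two, hzz, one_zpow]
    · right; rw [← hk, zpow_add_one, zpow_mul, zpow_two, hzz, one_zpow, one_mul]
  refine extraspecial_of (w := ⟨S.z, hzQ⟩) (IsPGroup.of_card S.card_Q) (fun e => hz1 (congrArg Subtype.val e))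
    (Subtype.ext hzz) (mem_center_iff.2 fun q => Subtype.ext (hc q q.2).eq) (fun c hcc => ?_) (fun a b => ?_)
    (fun a => (hsq a a.2).imp Subtype.ext Subtype.ext) ?_
  · rcases hzp (c : G) (S.centralizer_Q ▸ mem_centralizer_iff.2 fun q hq =>
      congrArg Subtype.val (mem_center_iff.1 hcc ⟨q, hq⟩)) with e | e
    · exact Or.inl (Subtype.ext e)
    · exact Or.inr (Subtype.ext e)
  · have key : ∀ u v : G, u ∈ S.Q → v ∈ S.Q → u * v * u⁻¹ * v⁻¹ = 1 ∨ u * v * u⁻¹ * v⁻¹ = S.z := by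
      intro u v hu hv
      have e : u * v * u⁻¹ * v⁻¹ = (u * v) * (u * v) * (v⁻¹ * (u⁻¹ * u⁻¹) * v) * (v⁻¹ * v⁻¹) := by group
      have h3 : v⁻¹ * (u⁻¹ * u⁻¹) * v = u⁻¹ * u⁻¹ := by
        rcases hsq u⁻¹ (inv_mem hu) with e | e <;> rw [e]
        · group
        · rw [mul_assoc, (hc v hv).symm.eq, inv_mul_cancel_left]
      rw [h3] at e
      rcases hsq _ (mul_mem hu hv) with e1 | e1 <;> rcases hsq _ (inv_mem hu) with e2 | e2 <;>
        rcases hsq _ (inv_mem hv) with e3 | e3 <;> rw [e, e1, e2, e3] <;> simp [hzz]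
    exact (key a b a.2 b.2).imp (fun e => Subtype.ext e) (fun e => Subtype.ext e)
  · let i : Fin n := ⟨0, hn⟩
    refine ⟨⟨S.μ (atv (Pi.single i 1)), le_sup_right (α := Subgroup G) ⟨_, atv_mem _, rfl⟩⟩,
      ⟨S.ι (.ofAdd (Pi.single i.succ 1)), le_sup_left (α := Subgroup G) ⟨_, rfl⟩⟩, fun h => ?_⟩
    have h1 : S.μ (atv (Pi.single i 1)) * S.ι (.ofAdd (Pi.single i.succ 1)) =
        S.ι (.ofAdd (Pi.single i.succ 1)) * S.μ (atv (Pi.single i 1)) := congrArg Subtype.val h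
    rw [S.conj_ι] at h1
    have := congrFun (Multiplicative.ofAdd.injective (S.ιinj (mul_right_cancel h1))) 0
    simp [atv_apply, ae0, Pi.single_apply] at this

theorem center_Q : (center ↥S.Q).map S.Q.subtype = zpowers S.z := by
  refine le_antisymm ?_ ?_
  · rintro _ ⟨c, hc, rfl⟩
    rw [← S.centralizer_Q]
    exact mem_centralizer_iff.2 fun q hq => congrArg Subtype.val (mem_center_iff.1 hc ⟨q, hq⟩)
  · rw [zpowers_le]
    have hzQ : S.z ∈ S.Q := le_sup_left (α := Subgroup G) ⟨_, rfl⟩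
    exact ⟨⟨_, hzQ⟩, mem_center_iff.2 fun q => Subtype.ext
      (mem_centralizer_singleton_iff.1 (S.Q_le q.2)), rfl⟩

theorem conj_Q {c : G} (hc : c ∈ centralizer ({S.z} : Set G)) {q : G} (hq : q ∈ S.Q) :
    c * q * c⁻¹ ∈ S.Q := by
  obtain ⟨v, g, hg, rfl⟩ := S.mem_cent.1 hc
  obtain ⟨w, t, ht, rfl⟩ := S.mem_Q.1 hq
  have e : S.μ g * (S.ι (.ofAdd w) * S.μ t) * (S.μ g)⁻¹ = S.ι (.ofAdd (g w)) * S.μ (g * t * g⁻¹) := by
    rw [← mul_assoc, S.conj_ι, map_mul, map_mul, map_inv]; group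
  rw [show S.ι (.ofAdd v) * S.μ g * (S.ι (.ofAdd w) * S.μ t) * (S.ι (.ofAdd v) * S.μ g)⁻¹ =
    S.ι (.ofAdd v) * (S.μ g * (S.ι (.ofAdd w) * S.μ t) * (S.μ g)⁻¹) * (S.ι (.ofAdd v))⁻¹ by group, e]
  have hv : S.ι (.ofAdd v) ∈ S.Q := le_sup_left (α := Subgroup G) ⟨_, rfl⟩
  exact mul_mem (mul_mem hv (S.mem_Q.2 ⟨_, _, conj_mem_aT ht hg, rfl⟩)) (inv_mem hv)

theorem normal_Q : centralizer (((center ↥S.Q).map S.Q.subtype : Subgroup G) : Set G) ≤
    normalizer (S.Q : Set G) := by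
  intro c hc
  rw [S.center_Q] at hc
  have hc' : c ∈ centralizer ({S.z} : Set G) :=
    mem_centralizer_singleton_iff.2 (mem_centralizer_iff.1 hc _ (mem_zpowers _)).symm
  refine mem_normalizer_iff.2 fun q => ⟨S.conj_Q hc', fun h => ?_⟩
  have := S.conj_Q (inv_mem hc') h
  rwa [show c⁻¹ * (c * q * c⁻¹) * c⁻¹⁻¹ = q by group] at this

theorem K_le : S.K ≤ centralizer ({S.z} : Set G) := by
  rintro _ ⟨A, rfl⟩
  exact S.mem_cent.2 ⟨0, akap A, akap_mem A, by simp⟩

theorem sup_K : S.Q ⊔ S.K = centralizer ({S.z} : Set G) := by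
  refine le_antisymm (sup_le S.Q_le S.K_le) fun x hx => ?_
  obtain ⟨v, g, hg, rfl⟩ := S.mem_cent.1 hx
  obtain ⟨A, hA⟩ := aS_decomp hg
  rw [show S.ι (.ofAdd v) * S.μ g = S.ι (.ofAdd v) * S.μ (g * (akap A)⁻¹) * S.μ (akap A) by
    rw [mul_assoc, ← map_mul, inv_mul_cancel_right]]
  exact mul_mem_sup (S.mem_Q.2 ⟨v, _, hA, rfl⟩) ⟨A, rfl⟩

theorem inf_K : S.Q ⊓ S.K = ⊥ := by
  rw [eq_bot_iff]
  rintro x ⟨hx, A, rfl⟩
  obtain ⟨v, g, hg, e⟩ := S.mem_Q.1 hx
  have e' : S.ι (.ofAdd 0) * S.μ (akap A) = S.ι (.ofAdd v) * S.μ g := by simpa using e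
  rw [Subgroup.mem_bot]
  show S.μ (akap A) = 1
  have hA : A = 1 := akap_mem_aT (by rw [(S.unique e').2]; exact hg)
  rw [hA, map_one, map_one]

theorem nonempty_K : Nonempty (↥S.K ≃* Matrix.GeneralLinearGroup (Fin n) (ZMod 2)) :=
  ⟨(MonoidHom.ofInjective (f := S.μ.comp akap) (S.μinj.comp akap_injective)).symm.trans
    ((LinearMap.GeneralLinearGroup.generalLinearEquiv (ZMod 2) (AV n)).symm.trans
      Matrix.GeneralLinearGroup.toLin.symm)⟩

theorem pCore_eq : (pCore 2 ↥(centralizer ({S.z} : Set G))).map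
    (centralizer ({S.z} : Set G)).subtype = S.Q := by
  have : Fact (Nat.Prime 2) := ⟨Nat.prime_two⟩
  set C := centralizer ({S.z} : Set G) with hCdef
  have hn : (S.Q.subgroupOf C).Normal := ⟨fun q hq c => S.conj_Q c.2 hq⟩
  have hle : S.Q.subgroupOf C ≤ pCore 2 ↥C := Core.le_pCore
    ((IsPGroup.of_card S.card_Q : IsPGroup 2 ↥S.Q).comap_of_injective C.subtype Subtype.val_injective)
  refine le_antisymm ?_ fun q hq => ⟨⟨q, S.Q_le hq⟩, hle hq, rfl⟩
  let ψ : AL n →* ↥C := (S.μ.comp akap).codRestrict C fun A => S.K_le ⟨A, rfl⟩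
  have := Core.pCore_normal (p := 2) (G := ↥C)
  have hN : IsPGroup 2 ↥((pCore 2 ↥C).comap ψ) := by
    refine Core.pCore_isPGroup.comap_of_injective ψ fun a b h => ?_
    exact (S.μinj.comp akap_injective) (congrArg Subtype.val h)
  rintro _ ⟨c, hc, rfl⟩
  obtain ⟨v, g, hg, he⟩ := S.mem_cent.1 c.2
  obtain ⟨A, hA⟩ := aS_decomp hg
  let q : ↥C := ⟨S.ι (.ofAdd v) * S.μ (g * (akap A)⁻¹), S.Q_le (S.mem_Q.2 ⟨v, _, hA, rfl⟩)⟩
  have hc' : c = q * ψ A := Subtype.ext (by
    show (c : G) = S.ι (.ofAdd v) * S.μ (g * (akap A)⁻¹) * S.μ (akap A)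
    rw [he, mul_assoc, ← map_mul, inv_mul_cancel_right])
  have hA1 : A = 1 := eq_one_of_normal_two _ hN (show ψ A ∈ pCore 2 ↥C from by
    have h1 : q ∈ pCore 2 ↥C := hle (S.mem_Q.2 ⟨v, _, hA, rfl⟩)
    have h2 := mul_mem (inv_mem h1) hc
    rwa [hc', inv_mul_cancel_left] at h2)
  show (c : G) ∈ S.Q
  rw [hc', hA1, map_one, mul_one]
  exact S.mem_Q.2 ⟨v, _, hA, rfl⟩

theorem no_odd (hn : 1 ≤ n) (M : Subgroup G) (hM : Odd (Nat.card ↥M))
    (hQM : S.Q ≤ normalizer (M : Set G)) : M = ⊥ := by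
  have : Fact (Nat.Prime 2) := ⟨Nat.prime_two⟩
  have hι : ∀ v, S.ι (.ofAdd v) ∈ S.Q := fun v => le_sup_left (α := Subgroup G) ⟨_, rfl⟩
  have hιsq : ∀ v, S.ι (.ofAdd v) * S.ι (.ofAdd v) = 1 := fun v => by
    rw [← map_mul, ← ofAdd_add, show v + v = 0 from funext fun i => zmod2_dbl _]; exact map_one _
  have hfix : ∀ v, v ≠ 0 → ∀ m ∈ M, m * S.ι (.ofAdd v) = S.ι (.ofAdd v) * m → m = 1 := by
    intro v hv m hm hmv
    have h1 := S.cent v hv (mem_centralizer_singleton_iff.2 hmv)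
    rw [MonoidHom.range_eq_map S.μ, S.mem_sup] at h1
    obtain ⟨w, g, -, hmeq⟩ := h1
    have hodd : ∀ x ∈ M, x * x = 1 → x = 1 := fun x hx h2 => orderOf_eq_one_iff.1
      (Nat.Coprime.eq_one_of_dvd (k := orderOf x) (m := 2)
        (Nat.coprime_two_right.2 (hM.of_dvd_nat (Subgroup.orderOf_dvd_natCard _ hx)))
        (orderOf_dvd_of_pow_eq_one (by rw [sq, h2])))
    have hcomm : ∀ u, S.ι (.ofAdd u) * m = m * S.ι (.ofAdd u) := by
      intro u
      obtain ⟨x, hx⟩ : ∃ x, x = S.ι (.ofAdd u) * m * (S.ι (.ofAdd u))⁻¹ * m⁻¹ := ⟨_, rfl⟩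
      have hxM : x ∈ M := hx ▸ M.mul_mem ((mem_normalizer_iff.1 (hQM (hι u)) m).1 hm) (M.inv_mem hm)
      have hxU : x = S.ι (.ofAdd (u + g (-u))) := by
        rw [hx, hmeq, ofAdd_add, map_mul, ← S.compat, ofAdd_neg, map_inv]
        have hcw : ∀ a, S.ι (.ofAdd w) * S.ι a = S.ι a * S.ι (.ofAdd w) := fun a => by
          rw [← map_mul, ← map_mul, mul_comm]
        obtain ⟨y, hy⟩ : ∃ y, y = S.μ g * (S.ι (.ofAdd u))⁻¹ * (S.μ g)⁻¹ := ⟨_, rfl⟩
        have hy' : S.ι (.ofAdd (g (-u))) = y := by rw [hy, ← S.compat, ofAdd_neg, map_inv]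
        calc S.ι (.ofAdd u) * (S.ι (.ofAdd w) * S.μ g) * (S.ι (.ofAdd u))⁻¹ *
              (S.ι (.ofAdd w) * S.μ g)⁻¹
            = S.ι (.ofAdd u) * (S.ι (.ofAdd w) * y) * (S.ι (.ofAdd w))⁻¹ := by rw [hy]; group
          _ = S.ι (.ofAdd u) * y := by rw [← hy', hcw]; group
          _ = _ := by rw [hy]
      have := hodd x hxM (by rw [hxU]; exact hιsq _)
      rw [this] at hx
      exact mul_inv_eq_iff_eq_mul.1 (mul_inv_eq_one.1 hx.symm)
    -- so `m` lies in the translations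
    have hg1 : g = 1 := LinearEquiv.ext fun u => by
      have := hcomm u
      rw [hmeq, ← mul_assoc, mul_assoc (S.ι (.ofAdd w)), S.conj_ι, ← mul_assoc, ← map_mul S.ι, ← map_mul S.ι,
        ← ofAdd_add, ← ofAdd_add, add_comm u w] at this
      exact add_left_cancel (Multiplicative.ofAdd.injective (S.ιinj (mul_right_cancel this))).symm
    refine hodd m hm ?_
    rw [hmeq, hg1, map_one, mul_one]; exact hιsq _
  have hinv : ∀ v, v ≠ 0 → ∀ m ∈ M,
      S.ι (.ofAdd v) * m * (S.ι (.ofAdd v))⁻¹ = m⁻¹ := by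
    intro v hv m hm
    set a := S.ι (.ofAdd v)
    have ha : a * a = 1 := hιsq v
    have hai : a⁻¹ = a := inv_eq_of_mul_eq_one_right ha
    let φ : ↥M →* ↥M :=
      { toFun := fun n => ⟨a * n * a⁻¹, (mem_normalizer_iff.1 (hQM (hι v)) n).1 n.2⟩
        map_one' := Subtype.ext (by simp)
        map_mul' := fun x y => Subtype.ext (by simp [mul_assoc]) }
    have hfp : MonoidHom.FixedPointFree φ := fun x hx =>
      Subtype.ext (hfix v hv x x.2 (mul_inv_eq_iff_eq_mul.1 (congrArg Subtype.val hx)).symm)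
    have h2 : Function.Involutive φ := fun x => Subtype.ext (by
      show a * (a * x * a⁻¹) * a⁻¹ = x
      rw [hai, ← mul_assoc, ← mul_assoc, ha, one_mul, mul_assoc, ha, mul_one])
    exact congrArg Subtype.val (congrFun (MonoidHom.FixedPointFree.coe_eq_inv_of_involutive hfp h2) ⟨m, hm⟩)
  let i : Fin n := ⟨0, hn⟩
  have h1 : (Pi.single i.succ 1 : AV (n + 1)) ≠ 0 := fun h => by simpa using congrFun h i.succ
  have h2 : ae0 + (Pi.single i.succ 1 : AV (n + 1)) ≠ 0 := fun h => by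
    simpa [ae0, Pi.single_apply] using congrFun h 0
  rw [eq_bot_iff]
  intro m hm
  have e := hinv _ h2 m hm
  rw [ofAdd_add, map_mul] at e
  have e' : S.ι (.ofAdd ae0) * (S.ι (.ofAdd (Pi.single i.succ 1)) * m *
      (S.ι (.ofAdd (Pi.single i.succ 1)))⁻¹) * (S.ι (.ofAdd ae0))⁻¹ = m⁻¹ := by
    rw [← e]; group
  rw [hinv _ h1 m hm, hinv _ ae0_ne _ (M.inv_mem hm), inv_inv] at e'
  refine Subgroup.mem_bot.2 (orderOf_eq_one_iff.1 (Nat.Coprime.eq_one_of_dvd (k := orderOf m) (m := 2)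
    (Nat.coprime_two_right.2 (hM.of_dvd_nat (Subgroup.orderOf_dvd_natCard _ hm)))
    (orderOf_dvd_of_pow_eq_one ?_)))
  rw [sq]; exact inv_eq_iff_mul_eq_one.1 e'.symm

theorem large (hn : 1 ≤ n) : IsLargeExtraspecial S.Q :=
  ⟨S.extraspecial hn, S.centralizer_Q.trans S.center_Q.symm, S.normal_Q, S.no_odd hn⟩

theorem U_elementary : S.ι.range ≤ S.Q ∧ IsElementaryAbelian 2 S.ι.range ∧
    Nat.card ↥S.ι.range = 2 ^ (n + 1) := by
  refine ⟨le_sup_left, ⟨⟨⟨?_⟩⟩, ?_⟩, ?_⟩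
  · rintro ⟨_, a, rfl⟩ ⟨_, b, rfl⟩
    exact Subtype.ext (show S.ι a * S.ι b = S.ι b * S.ι a by rw [← map_mul, mul_comm, map_mul])
  · rintro _ ⟨a, rfl⟩
    rw [sq, ← map_mul, show a * a = 1 from Multiplicative.toAdd.injective (funext fun i => zmod2_dbl _),
      map_one]
  · rw [← Nat.card_congr (MonoidHom.ofInjective S.ιinj).toEquiv, Nat.card_congr Multiplicative.toAdd,
      Nat.card_fun, Nat.card_zmod, Nat.card_eq_fintype_card, Fintype.card_fin]

end AffineSetup

end Cfsg.Agent.LargeExtra
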