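import Cfsg.Agent.LargeExtra.Large
import Cfsg.Agent.LargeExtra.SingularSubgroup
import Mathlib.GroupTheory.Nilpotent
import Mathlib.GroupTheory.Perm.Fin

/-!
# Two orthogonal conjugates of the centre of a large extraspecial 2-subgroup

For `x = g z g⁻¹ ∈ Q` the group `X = ⟨Q, gQg⁻¹⟩` induces `S₃` on `V = ⟨z, x⟩` with kernel
`R = C_Q(x) C_{gQg⁻¹}(z)`.
-/

set_option autoImplicit false
set_option maxHeartbeats 1000000

open Cfsg Subgroup
open scoped commutatorElement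

namespace Cfsg.Agent.LargeExtra

variable {G : Type*} [Group G] [Finite G]

/-- The configuration: `Q` extraspecial at `z`, `Q'` at `x`, each containing the other involution. -/
structure Pair (Q Q' : Subgroup G) (z x : G) : Prop where
  es : IsExtraspecial 2 ↥Q
  es' : IsExtraspecial 2 ↥Q'
  le : Q ≤ centralizer ({z} : Set G)
  le' : Q' ≤ centralizer ({x} : Set G)
  nrm : centralizer ({z} : Set G) ≤ normalizer (Q : Set G)
  nrm' : centralizer ({x} : Set G) ≤ normalizer (Q' : Set G)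
  cent : centralizer (Q : Set G) ≤ zpowers z
  ord : orderOf z = 2
  ord' : orderOf x = 2
  mem : z ∈ Q
  mem' : x ∈ Q'
  memx : x ∈ Q
  memz : z ∈ Q'
  ne : x ≠ z

namespace Pair

variable {Q Q' : Subgroup G} {z x : G} (h : Pair Q Q' z x)
include h

theorem zz : z * z = 1 := by rw [← sq, ← h.ord, pow_orderOf_eq_one]

theorem xx : x * x = 1 := by rw [← sq, ← h.ord', pow_orderOf_eq_one]

theorem z_ne : z ≠ 1 := fun e => by have := h.ord; rw [e, orderOf_one] at this; omega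

theorem x_ne : x ≠ 1 := fun e => by have := h.ord'; rw [e, orderOf_one] at this; omega

theorem xz_comm : Commute x z := mem_centralizer_singleton_iff.1 (h.le h.memx)

theorem ccases {c : G} (hc : c ∈ Q) (hcc : ∀ q ∈ Q, Commute q c) : c = 1 ∨ c = z :=
  LargeExtra.center_cases h.es h.z_ne h.mem
    (fun _ hq => mem_centralizer_singleton_iff.1 (h.le hq)) hc hcc

theorem comm_cases {a b : G} (ha : a ∈ Q) (hb : b ∈ Q) :
    a * b * a⁻¹ * b⁻¹ = 1 ∨ a * b * a⁻¹ * b⁻¹ = z := by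
  have : Fact (Nat.Prime 2) := ⟨Nat.prime_two⟩
  exact h.ccases (mul_mem (mul_mem (mul_mem ha hb) (inv_mem ha)) (inv_mem hb)) fun q hq =>
    congrArg Subtype.val (mem_center_iff.1
      (Fusion.es_commutator_mem h.es (⟨a, ha⟩ : ↥Q) ⟨b, hb⟩) ⟨q, hq⟩)

theorem comm_cases' {a b : G} (ha : a ∈ Q') (hb : b ∈ Q') :
    a * b * a⁻¹ * b⁻¹ = 1 ∨ a * b * a⁻¹ * b⁻¹ = x := by
  have : Fact (Nat.Prime 2) := ⟨Nat.prime_two⟩
  exact LargeExtra.center_cases h.es' h.x_ne h.mem'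
    (fun _ hq => mem_centralizer_singleton_iff.1 (h.le' hq))
    (mul_mem (mul_mem (mul_mem ha hb) (inv_mem ha)) (inv_mem hb)) fun q hq =>
    congrArg Subtype.val (mem_center_iff.1
      (Fusion.es_commutator_mem h.es' (⟨a, ha⟩ : ↥Q') ⟨b, hb⟩) ⟨q, hq⟩)

theorem sq_cases {a : G} (ha : a ∈ Q) : a * a = 1 ∨ a * a = z := by
  have : Fact (Nat.Prime 2) := ⟨Nat.prime_two⟩
  refine h.ccases (mul_mem ha ha) fun q hq => ?_
  have h1 := Fusion.es_pow_mem_center h.es (⟨a, ha⟩ : ↥Q)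
  rw [sq] at h1
  exact congrArg Subtype.val (mem_center_iff.1 h1 ⟨q, hq⟩)

theorem sq_cases' {a : G} (ha : a ∈ Q') : a * a = 1 ∨ a * a = x := by
  have : Fact (Nat.Prime 2) := ⟨Nat.prime_two⟩
  refine LargeExtra.center_cases h.es' h.x_ne h.mem'
    (fun _ hq => mem_centralizer_singleton_iff.1 (h.le' hq)) (mul_mem ha ha) fun q hq => ?_
  have h1 := Fusion.es_pow_mem_center h.es' (⟨a, ha⟩ : ↥Q')
  rw [sq] at h1
  exact congrArg Subtype.val (mem_center_iff.1 h1 ⟨q, hq⟩)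

omit h in
/-- The four-group. -/
def V (z x : G) : Subgroup G := closure {z, x}

omit h in
/-- Its centraliser. -/
def K (z x : G) : Subgroup G := centralizer ((V z x : Subgroup G) : Set G)

omit h [Finite G] in
theorem mem_K {c : G} : c ∈ K z x ↔ Commute c z ∧ Commute c x := by
  constructor
  · intro hc
    exact ⟨(mem_centralizer_iff.1 hc z (subset_closure (Or.inl rfl))).symm,
      (mem_centralizer_iff.1 hc x (subset_closure (Or.inr rfl))).symm⟩
  · rintro ⟨h1, h2⟩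
    refine mem_centralizer_iff.2 fun v hv => ?_
    induction hv using closure_induction with
    | mem v hv => rcases hv with rfl | rfl; exacts [h1.eq.symm, h2.eq.symm]
    | one => rw [one_mul, mul_one]
    | mul a b _ _ ha hb => exact ((show Commute a c from ha).mul_left hb).eq
    | inv a _ ha => exact (show Commute a c from ha).inv_left.eq

theorem mem_V {v : G} : v ∈ V z x ↔ v = 1 ∨ v = z ∨ v = x ∨ v = x * z := by
  have hz : z ∈ V z x := subset_closure (Or.inl rfl)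
  have hx : x ∈ V z x := subset_closure (Or.inr rfl)
  constructor
  · intro hv
    have e1 : z * x = x * z := h.xz_comm.eq.symm
    have e2 : x * z * (x * z) = 1 := by
      rw [mul_assoc, ← mul_assoc z, e1, mul_assoc, h.zz, mul_one, h.xx]
    have e3 : x * z * z = x := by rw [mul_assoc, h.zz, mul_one]
    have e4 : z * (x * z) = x := by rw [← mul_assoc, e1, e3]
    have e5 : x * (x * z) = z := by rw [← mul_assoc, h.xx, one_mul]
    have e6 : x * z * x = z := by rw [mul_assoc, e1, e5]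
    induction hv using closure_induction with
    | mem c hc =>
      rcases hc with rfl | rfl
      · exact Or.inr (Or.inl rfl)
      · exact Or.inr (Or.inr (Or.inl rfl))
    | one => exact Or.inl rfl
    | mul a b _ _ ha hb =>
      rcases ha with rfl | rfl | rfl | rfl <;> rcases hb with rfl | rfl | rfl | rfl <;>
        simp [e1, e2, e3, e4, e5, e6, h.zz, h.xx]
    | inv a _ ha =>
      rcases ha with rfl | rfl | rfl | rfl
      · exact Or.inl inv_one
      · exact Or.inr (Or.inl (inv_eq_of_mul_eq_one_right h.zz))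
      · exact Or.inr (Or.inr (Or.inl (inv_eq_of_mul_eq_one_right h.xx)))
      · exact Or.inr (Or.inr (Or.inr (inv_eq_of_mul_eq_one_right e2)))
  · rintro (rfl | rfl | rfl | rfl)
    exacts [one_mem _, hz, hx, mul_mem hx hz]

theorem conj_x {q : G} (hq : q ∈ Q) : q * x * q⁻¹ = x ∨ q * x * q⁻¹ = x * z := by
  rcases h.comm_cases hq h.memx with e | e
  · exact Or.inl (mul_inv_eq_one.1 e)
  · right; rw [mul_inv_eq_iff_eq_mul.1 e, h.xz_comm.eq]

theorem conj_z {q : G} (hq : q ∈ Q') : q * z * q⁻¹ = z ∨ q * z * q⁻¹ = x * z := by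
  rcases h.comm_cases' hq h.memz with e | e
  · exact Or.inl (mul_inv_eq_one.1 e)
  · right; rw [mul_inv_eq_iff_eq_mul.1 e]

theorem nK : ∀ k ∈ K z x, k ∈ normalizer (Q : Set G) ∧ k ∈ normalizer (Q' : Set G) := fun _ hk =>
  ⟨h.nrm (mem_centralizer_singleton_iff.2 (mem_K.1 hk).1.eq),
    h.nrm' (mem_centralizer_singleton_iff.2 (mem_K.1 hk).2.eq)⟩

theorem P_le_K : Q ⊓ centralizer ({x} : Set G) ≤ K z x := fun _ hp =>
  mem_K.2 ⟨mem_centralizer_singleton_iff.1 (h.le hp.1), mem_centralizer_singleton_iff.1 hp.2⟩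

theorem P'_le_K : Q' ⊓ centralizer ({z} : Set G) ≤ K z x := fun _ hp =>
  mem_K.2 ⟨mem_centralizer_singleton_iff.1 hp.2, mem_centralizer_singleton_iff.1 (h.le' hp.1)⟩

/-- `[Q, C(V)] ≤ C_Q(x)`. -/
theorem comm_QK {q k : G} (hq : q ∈ Q) (hk : k ∈ K z x) :
    q * k * q⁻¹ * k⁻¹ ∈ Q ⊓ centralizer ({x} : Set G) := by
  refine ⟨?_, ?_⟩
  · rw [mul_assoc q, mul_assoc q]
    exact Q.mul_mem hq ((mem_normalizer_iff.1 (h.nK k hk).1 q⁻¹).1 (Q.inv_mem hq))
  · obtain ⟨hkz, hkx⟩ := mem_K.1 hk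
    refine mem_centralizer_singleton_iff.2 ?_
    refine mul_inv_eq_iff_eq_mul.1 ?_
    obtain ⟨c, hc, hcq⟩ : ∃ c, Commute k c ∧ q⁻¹ * x * q = c := ⟨q⁻¹ * x * q, by
      rcases h.conj_x (Q.inv_mem hq) with e | e <;> rw [inv_inv] at e <;> rw [e]
      · exact hkx
      · exact hkx.mul_right hkz, rfl⟩
    calc q * k * q⁻¹ * k⁻¹ * x * (q * k * q⁻¹ * k⁻¹)⁻¹
        = q * k * q⁻¹ * (k⁻¹ * x * k) * q * k⁻¹ * q⁻¹ := by group
      _ = q * k * (q⁻¹ * x * q) * k⁻¹ * q⁻¹ := by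
          rw [show k⁻¹ * x * k = x by rw [mul_assoc, ← hkx.eq, inv_mul_cancel_left]]; group
      _ = x := by
          rw [hcq, show q * k * c * k⁻¹ * q⁻¹ = q * (k * c * k⁻¹) * q⁻¹ by group, hc.eq,
            mul_inv_cancel_right, ← hcq]
          group

theorem comm_Q'K {q k : G} (hq : q ∈ Q') (hk : k ∈ K z x) :
    q * k * q⁻¹ * k⁻¹ ∈ Q' ⊓ centralizer ({z} : Set G) := by
  refine ⟨?_, ?_⟩
  · rw [mul_assoc q, mul_assoc q]
    exact Q'.mul_mem hq ((mem_normalizer_iff.1 (h.nK k hk).2 q⁻¹).1 (Q'.inv_mem hq))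
  · obtain ⟨hkz, hkx⟩ := mem_K.1 hk
    refine mem_centralizer_singleton_iff.2 ?_
    refine mul_inv_eq_iff_eq_mul.1 ?_
    obtain ⟨c, hc, hcq⟩ : ∃ c, Commute k c ∧ q⁻¹ * z * q = c := ⟨q⁻¹ * z * q, by
      rcases h.conj_z (Q'.inv_mem hq) with e | e <;> rw [inv_inv] at e <;> rw [e]
      · exact hkz
      · exact hkx.mul_right hkz, rfl⟩
    calc q * k * q⁻¹ * k⁻¹ * z * (q * k * q⁻¹ * k⁻¹)⁻¹
        = q * k * q⁻¹ * (k⁻¹ * z * k) * q * k⁻¹ * q⁻¹ := by group
      _ = q * k * (q⁻¹ * z * q) * k⁻¹ * q⁻¹ := by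
          rw [show k⁻¹ * z * k = z by rw [mul_assoc, ← hkz.eq, inv_mul_cancel_left]]; group
      _ = z := by
          rw [hcq, show q * k * c * k⁻¹ * q⁻¹ = q * (k * c * k⁻¹) * q⁻¹ by group, hc.eq,
            mul_inv_cancel_right, ← hcq]
          group

omit h in
/-- `R = C_{Q'}(z) C_Q(x)`. -/
def R (Q Q' : Subgroup G) (z x : G) : Subgroup G :=
  (Q' ⊓ centralizer ({z} : Set G)) ⊔ (Q ⊓ centralizer ({x} : Set G))

theorem R_le_K : R Q Q' z x ≤ K z x := sup_le h.P'_le_K h.P_le_K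

theorem V_le_R : V z x ≤ R Q Q' z x := by
  refine (closure_le _).2 ?_
  rintro v (rfl | rfl)
  · exact mem_sup_right ⟨h.mem, mem_centralizer_singleton_iff.2 h.xz_comm.eq.symm⟩
  · exact mem_sup_right ⟨h.memx, mem_centralizer_singleton_iff.2 rfl⟩

/-- Elements of `Q ∪ Q'` normalise `R`. -/
theorem conj_R {q : G} (hq : q ∈ Q ∨ q ∈ Q') {r : G} (hr : r ∈ R Q Q' z x) :
    q * r * q⁻¹ ∈ R Q Q' z x := by
  have hK := h.R_le_K hr
  have hc : q * r * q⁻¹ * r⁻¹ ∈ R Q Q' z x := by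
    rcases hq with hq | hq
    · exact mem_sup_right (h.comm_QK hq hK)
    · exact mem_sup_left (h.comm_Q'K hq hK)
  have := mul_mem hc hr
  rwa [inv_mul_cancel_right] at this

theorem X_le_normalizer : Q ⊔ Q' ≤ normalizer ((R Q Q' z x : Subgroup G) : Set G) := by
  have key : ∀ q, (q ∈ Q ∨ q ∈ Q') → q ∈ normalizer ((R Q Q' z x : Subgroup G) : Set G) := by
    intro q hq
    have hq' : q⁻¹ ∈ Q ∨ q⁻¹ ∈ Q' := hq.imp Q.inv_mem Q'.inv_mem
    rw [mem_normalizer_iff]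
    exact fun r => ⟨h.conj_R hq, fun hr => by simpa [mul_assoc] using h.conj_R hq' hr⟩
  exact sup_le (fun q hq => key q (Or.inl hq)) (fun q hq => key q (Or.inr hq))

theorem comm_XK {u k : G} (hu : u ∈ Q ⊔ Q') (hk : k ∈ K z x) :
    u * k * u⁻¹ * k⁻¹ ∈ R Q Q' z x := by
  have hN := h.X_le_normalizer
  let S : Subgroup G :=
    { carrier := {u | u ∈ Q ⊔ Q' ∧ ∀ k ∈ K z x, u * k * u⁻¹ * k⁻¹ ∈ R Q Q' z x}
      one_mem' := ⟨one_mem _, fun k _ => by simp⟩
      mul_mem' := by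
        rintro a b ⟨ha, ha'⟩ ⟨hb, hb'⟩
        refine ⟨mul_mem ha hb, fun k hk => ?_⟩
        rw [show a * b * k * (a * b)⁻¹ * k⁻¹
          = a * (b * k * b⁻¹ * k⁻¹) * a⁻¹ * (a * k * a⁻¹ * k⁻¹) by group]
        exact mul_mem ((mem_normalizer_iff.1 (hN ha) _).1 (hb' k hk)) (ha' k hk)
      inv_mem' := by
        rintro a ⟨ha, ha'⟩
        refine ⟨inv_mem ha, fun k hk => ?_⟩
        rw [show a⁻¹ * k * a⁻¹⁻¹ * k⁻¹ = a⁻¹ * (a * k * a⁻¹ * k⁻¹)⁻¹ * a⁻¹⁻¹ by group]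
        exact (mem_normalizer_iff.1 (hN (inv_mem ha)) _).1 (inv_mem (ha' k hk)) }
  have : Q ⊔ Q' ≤ S := sup_le
    (fun q hq => ⟨mem_sup_left hq, fun k hk => mem_sup_right (h.comm_QK hq hk)⟩)
    (fun q hq => ⟨mem_sup_right hq, fun k hk => mem_sup_left (h.comm_Q'K hq hk)⟩)
  exact (this hu).2 k hk

theorem R_isPGroup : IsPGroup 2 ↥(R Q Q' z x) := by
  refine (h.es'.1.1.to_le inf_le_left).to_sup_of_normal_right' (h.es.1.1.to_le inf_le_left) ?_
  intro p hp
  have hz := mem_centralizer_singleton_iff.1 hp.2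
  have hx := mem_centralizer_singleton_iff.1 (h.le' hp.1)
  have hc : p ∈ normalizer ((centralizer ({x} : Set G) : Subgroup G) : Set G) :=
    Subgroup.le_normalizer (mem_centralizer_singleton_iff.2 hx)
  rw [mem_normalizer_iff]
  exact fun a => and_congr
    (mem_normalizer_iff.1 (h.nrm (mem_centralizer_singleton_iff.2 hz)) a)
    (mem_normalizer_iff.1 hc a)

theorem exists_mover : ∃ y ∈ Q, y * x * y⁻¹ = x * z := by
  by_contra hcon
  push Not at hcon
  have hc : ∀ q ∈ Q, Commute q x := fun q hq =>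
    mul_inv_eq_iff_eq_mul.1 ((h.conj_x hq).resolve_right (hcon q hq))
  rcases h.ccases h.memx hc with e | e
  · exact h.x_ne e
  · exact h.ne e

theorem exists_mover' : ∃ y ∈ Q', y * z * y⁻¹ = x * z := by
  by_contra hcon
  push Not at hcon
  have hc : ∀ q ∈ Q', Commute q z := fun q hq =>
    mul_inv_eq_iff_eq_mul.1 ((h.conj_z hq).resolve_right (hcon q hq))
  rcases LargeExtra.center_cases h.es' h.x_ne h.mem'
    (fun _ hq => mem_centralizer_singleton_iff.1 (h.le' hq)) h.memz hc with e | e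
  · exact h.z_ne e
  · exact h.ne e.symm

theorem R_le_X : R Q Q' z x ≤ Q ⊔ Q' :=
  sup_le (inf_le_left.trans le_sup_right) (inf_le_left.trans le_sup_left)

/-- Two elements of `Q` which both move `x` differ by an element of `R`. -/
theorem mover_diff {a b : G} (ha : a ∈ Q) (hb : b ∈ Q) (hax : a * x * a⁻¹ = x * z)
    (hbx : b * x * b⁻¹ = x * z) : b⁻¹ * a ∈ R Q Q' z x := by
  refine mem_sup_right ⟨Q.mul_mem (Q.inv_mem hb) ha, mem_centralizer_singleton_iff.2 ?_⟩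
  calc b⁻¹ * a * x = b⁻¹ * (a * x * a⁻¹) * a := by group
    _ = x * (b⁻¹ * a) := by rw [hax, ← hbx]; group

theorem mover_diff' {a b : G} (ha : a ∈ Q') (hb : b ∈ Q') (hax : a * z * a⁻¹ = x * z)
    (hbx : b * z * b⁻¹ = x * z) : b⁻¹ * a ∈ R Q Q' z x := by
  refine mem_sup_left ⟨Q'.mul_mem (Q'.inv_mem hb) ha, mem_centralizer_singleton_iff.2 ?_⟩
  calc b⁻¹ * a * z = b⁻¹ * (a * z * a⁻¹) * a := by group
    _ = z * (b⁻¹ * a) := by rw [hax, ← hbx]; group

/-- `X` is covered by six cosets of `R`. -/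
theorem cosets {y w : G} (hy : y ∈ Q) (hyx : y * x * y⁻¹ = x * z) (hw : w ∈ Q')
    (hwz : w * z * w⁻¹ = x * z) (hQ' : ∃ g, Q' = Q.map (MulAut.conj g).toMonoidHom ∧ g * z * g⁻¹ = x)
    {u : G} (hu : u ∈ Q ⊔ Q') :
    ∃ c ∈ ({1, y, w, y * w, w * y, y * w * y} : Set G), c⁻¹ * u ∈ R Q Q' z x := by
  set Rr := R Q Q' z x with hRr
  have hN := h.X_le_normalizer
  have hyX : y ∈ Q ⊔ Q' := mem_sup_left hy
  have hwX : w ∈ Q ⊔ Q' := mem_sup_right hw
  have hn : (Rr.subgroupOf (Q ⊔ Q')).Normal :=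
    normal_subgroupOf_of_le_normalizer hN
  let π := QuotientGroup.mk' (Rr.subgroupOf (Q ⊔ Q'))
  have hπ : ∀ {a : G} (ha : a ∈ Q ⊔ Q'), π ⟨a, ha⟩ = 1 ↔ a ∈ Rr := fun _ =>
    QuotientGroup.eq_one_iff _
  have hyz : y * z * y⁻¹ = z := by
    rw [mem_centralizer_singleton_iff.1 (h.le hy), mul_inv_cancel_right]
  have hwx : w * x * w⁻¹ = x := by
    rw [mem_centralizer_singleton_iff.1 (h.le' hw), mul_inv_cancel_right]
  set Y := π ⟨y, hyX⟩ with hY
  set W := π ⟨w, hwX⟩ with hW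
  have hY2 : Y * Y = 1 := by
    rw [hY, ← map_mul]
    refine (hπ _).2 ?_
    rcases h.sq_cases hy with e | e <;> rw [e]
    · exact one_mem _
    · exact h.V_le_R (h.mem_V.2 (Or.inr (Or.inl rfl)))
  have hW2 : W * W = 1 := by
    rw [hW, ← map_mul]
    refine (hπ _).2 ?_
    rcases h.sq_cases' hw with e | e <;> rw [e]
    · exact one_mem _
    · exact h.V_le_R (h.mem_V.2 (Or.inr (Or.inr (Or.inl rfl))))
  have hb : W * Y * W = Y * W * Y := by
    have hwwz : w * (x * z) * w⁻¹ = z := by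
      rw [show w * (x * z) * w⁻¹ = w * x * w⁻¹ * (w * z * w⁻¹) by group, hwx, hwz, ← mul_assoc,
        h.xx, one_mul]
    have hyy : y * (x * z) * y⁻¹ = x := by
      rw [show y * (x * z) * y⁻¹ = y * x * y⁻¹ * (y * z * y⁻¹) by group, hyx, hyz, mul_assoc,
        h.zz, mul_one]
    have hd : y⁻¹ * (w * y * w⁻¹) * y ∈ Q' := by
      -- both conjugates belong to the conjugate of `Q` at `x * z`
      obtain ⟨g, hg, hgx⟩ := hQ'
      have hk : g⁻¹ * y⁻¹ * w ∈ centralizer ({z} : Set G) := by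
        rw [mem_centralizer_singleton_iff]
        have e : y⁻¹ * (w * z * w⁻¹) * y = g * z * g⁻¹ := by rw [hwz, ← hyx, hgx]; group
        calc g⁻¹ * y⁻¹ * w * z = g⁻¹ * (y⁻¹ * (w * z * w⁻¹) * y) * y⁻¹ * w := by group
          _ = z * (g⁻¹ * y⁻¹ * w) := by rw [e]; group
      rw [hg]
      refine ⟨(g⁻¹ * y⁻¹ * w) * y * (g⁻¹ * y⁻¹ * w)⁻¹,
        (mem_normalizer_iff.1 (h.nrm hk) y).1 hy, ?_⟩
      simp [mul_assoc]
    have hd' : y⁻¹ * (w * y * w⁻¹) * y * z * (y⁻¹ * (w * y * w⁻¹) * y)⁻¹ = x * z := by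
      rw [show y⁻¹ * (w * y * w⁻¹) * y * z * (y⁻¹ * (w * y * w⁻¹) * y)⁻¹
        = y⁻¹ * (w * (y * (w⁻¹ * (y * z * y⁻¹) * w) * y⁻¹) * w⁻¹) * y by group, hyz,
        show w⁻¹ * z * w = x * z by
          calc w⁻¹ * z * w = w⁻¹ * (w * (x * z) * w⁻¹) * w := by rw [hwwz]
            _ = x * z := by group,
        hyy, hwx]
      calc y⁻¹ * x * y = y⁻¹ * (y * (x * z) * y⁻¹) * y := by rw [hyy]
        _ = x * z := by group
    have h1 : π (⟨w, hwX⟩⁻¹ * (⟨y, hyX⟩⁻¹ * (⟨w, hwX⟩ * ⟨y, hyX⟩ * ⟨w, hwX⟩⁻¹) * ⟨y, hyX⟩)) = 1 :=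
      (QuotientGroup.eq_one_iff _).2 (h.mover_diff' hd hw hd' hwz)
    simp only [map_mul, map_inv, ← hY, ← hW, inv_eq_of_mul_eq_one_right hY2,
      inv_eq_of_mul_eq_one_right hW2] at h1
    have h2 : Y * (W * Y * W) * Y = W := by
      calc Y * (W * Y * W) * Y = W * (W * (Y * (W * Y * W) * Y)) := by
            rw [← mul_assoc W W, hW2, one_mul]
        _ = W := by rw [h1, mul_one]
    calc W * Y * W = (Y * Y) * (W * Y * W) * (Y * Y) := by rw [hY2, one_mul, mul_one]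
      _ = Y * (Y * (W * Y * W) * Y) * Y := by simp only [mul_assoc]
      _ = Y * W * Y := by rw [h2]
  -- the six cosets
  let S : Set (↥(Q ⊔ Q') ⧸ Rr.subgroupOf (Q ⊔ Q')) := {1, Y, W, Y * W, W * Y, Y * W * Y}
  have hstep : ∀ t, (t = Y ∨ t = W) → ∀ c ∈ S, t * c ∈ S := by
    have eY : ∀ a, Y * (Y * a) = a := fun a => by rw [← mul_assoc, hY2, one_mul]
    have eW : ∀ a, W * (W * a) = a := fun a => by rw [← mul_assoc, hW2, one_mul]
    have hb1 : W * (Y * W) = Y * (W * Y) := by rw [← mul_assoc, ← mul_assoc, hb]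
    have eWY : W * (Y * (W * Y)) = Y * W := by rw [← hb1, eW]
    rintro t (rfl | rfl) c (rfl | rfl | rfl | rfl | rfl | rfl) <;>
      simp [S, mul_assoc, eY, eW, hb1, hY2, hW2, eWY]
  have hgen : ∀ q : G, ∀ hq : q ∈ Q ⊔ Q', (q ∈ Q ∨ q ∈ Q') →
      π ⟨q, hq⟩ = 1 ∨ π ⟨q, hq⟩ = Y ∨ π ⟨q, hq⟩ = W := by
    rintro q hq (hqQ | hqQ)
    · rcases h.conj_x hqQ with e | e
      · exact Or.inl ((hπ hq).2 (mem_sup_right
          ⟨hqQ, mem_centralizer_singleton_iff.2 (mul_inv_eq_iff_eq_mul.1 e)⟩))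
      · refine Or.inr (Or.inl ?_)
        refine (inv_mul_eq_one.1 ?_).symm
        rw [hY, ← map_inv, ← map_mul]
        exact (hπ _).2 (h.mover_diff hqQ hy e hyx)
    · rcases h.conj_z hqQ with e | e
      · exact Or.inl ((hπ hq).2 (mem_sup_left
          ⟨hqQ, mem_centralizer_singleton_iff.2 (mul_inv_eq_iff_eq_mul.1 e)⟩))
      · refine Or.inr (Or.inr ?_)
        refine (inv_mul_eq_one.1 ?_).symm
        rw [hW, ← map_inv, ← map_mul]
        exact (hπ _).2 (h.mover_diff' hqQ hw e hwz)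
  have hall : ∀ hu : u ∈ Q ⊔ Q', π ⟨u, hu⟩ ∈ S := by
    have hu' : u ∈ closure ((Q : Set G) ∪ Q') := by
      rwa [Subgroup.closure_union, Subgroup.closure_eq, Subgroup.closure_eq]
    induction hu' using closure_induction_left with
    | one => exact fun _ => Or.inl (map_one π)
    | mul_left q hq v _ ih =>
      intro hqv
      have hqX : q ∈ Q ⊔ Q' := hq.elim mem_sup_left mem_sup_right
      have hvX : v ∈ Q ⊔ Q' := by
        have := mul_mem (inv_mem hqX) hqv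
        rwa [inv_mul_cancel_left] at this
      have hv := ih hvX hvX
      have e : π ⟨q * v, hqv⟩ = π ⟨q, hqX⟩ * π ⟨v, hvX⟩ := (map_mul π ⟨q, hqX⟩ ⟨v, hvX⟩)
      rw [e]
      rcases hgen q hqX hq with e | e | e <;> rw [e]
      · rwa [one_mul]
      · exact hstep _ (Or.inl rfl) _ hv
      · exact hstep _ (Or.inr rfl) _ hv
    | inv_mul_cancel q hq v _ ih =>
      intro hqv
      have hqX : q ∈ Q ⊔ Q' := hq.elim mem_sup_left mem_sup_right
      have hvX : v ∈ Q ⊔ Q' := by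
        have := mul_mem hqX hqv
        rwa [mul_inv_cancel_left] at this
      have hv := ih hvX hvX
      have e : π ⟨q⁻¹ * v, hqv⟩ = π ⟨q⁻¹, inv_mem hqX⟩ * π ⟨v, hvX⟩ :=
        (map_mul π ⟨q⁻¹, inv_mem hqX⟩ ⟨v, hvX⟩)
      rw [e]
      rcases hgen q⁻¹ (inv_mem hqX) (hq.imp Q.inv_mem Q'.inv_mem) with e | e | e <;> rw [e]
      · rwa [one_mul]
      · exact hstep _ (Or.inl rfl) _ hv
      · exact hstep _ (Or.inr rfl) _ hv
  have back : ∀ {c : G} (hc : c ∈ Q ⊔ Q'), π ⟨u, hu⟩ = π ⟨c, hc⟩ → c⁻¹ * u ∈ Rr := fun hc e =>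
    (hπ (mul_mem (inv_mem hc) hu)).1 (by
      rw [show (⟨_, mul_mem (inv_mem hc) hu⟩ : ↥(Q ⊔ Q')) = ⟨_, hc⟩⁻¹ * ⟨u, hu⟩ from rfl,
        map_mul, map_inv, e, inv_mul_cancel])
  rcases hall hu with e | e | e | e | e | e
  · exact ⟨1, Or.inl rfl, back (one_mem _) (e.trans (map_one π).symm)⟩
  · exact ⟨y, Or.inr (Or.inl rfl), back hyX e⟩
  · exact ⟨w, Or.inr (Or.inr (Or.inl rfl)), back hwX e⟩
  · exact ⟨y * w, Or.inr (Or.inr (Or.inr (Or.inl rfl))),
      back (mul_mem hyX hwX) (e.trans (map_mul π ⟨y, hyX⟩ ⟨w, hwX⟩).symm)⟩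
  · exact ⟨w * y, Or.inr (Or.inr (Or.inr (Or.inr (Or.inl rfl)))),
      back (mul_mem hwX hyX) (e.trans (map_mul π ⟨w, hwX⟩ ⟨y, hyX⟩).symm)⟩
  · exact ⟨y * w * y, Or.inr (Or.inr (Or.inr (Or.inr (Or.inr rfl)))),
      back (mul_mem (mul_mem hyX hwX) hyX)
        (e.trans (((map_mul π (⟨y, hyX⟩ * ⟨w, hwX⟩) ⟨y, hyX⟩).trans
          (congrArg (· * Y) (map_mul π ⟨y, hyX⟩ ⟨w, hwX⟩))).symm))⟩

theorem X_le_normalizer_V : Q ⊔ Q' ≤ normalizer ((V z x : Subgroup G) : Set G) := by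
  have key : ∀ q, (q ∈ Q ∨ q ∈ Q') → ∀ v ∈ V z x, q * v * q⁻¹ ∈ V z x := by
    intro q hq v hv
    induction hv using closure_induction with
    | mem v hv =>
      rcases hv with rfl | rfl <;> rcases hq with hq | hq
      · rw [mem_centralizer_singleton_iff.1 (h.le hq), mul_inv_cancel_right]
        exact subset_closure (Or.inl rfl)
      · rcases h.conj_z hq with e | e <;> rw [e]
        · exact subset_closure (Or.inl rfl)
        · exact h.mem_V.2 (Or.inr (Or.inr (Or.inr rfl)))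
      · rcases h.conj_x hq with e | e <;> rw [e]
        · exact subset_closure (Or.inr rfl)
        · exact h.mem_V.2 (Or.inr (Or.inr (Or.inr rfl)))
      · rw [mem_centralizer_singleton_iff.1 (h.le' hq), mul_inv_cancel_right]
        exact subset_closure (Or.inr rfl)
    | one => simp
    | mul a b _ _ ha hb => rw [← conjm]; exact mul_mem ha hb
    | inv a _ ha => rw [← conj_inv]; exact inv_mem ha
  have key' : ∀ q, (q ∈ Q ∨ q ∈ Q') → q ∈ normalizer ((V z x : Subgroup G) : Set G) := by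
    intro q hq
    rw [mem_normalizer_iff]
    exact fun v => ⟨key q hq v, fun hv => by
      simpa [mul_assoc] using key q⁻¹ (hq.imp Q.inv_mem Q'.inv_mem) _ hv⟩
  exact sup_le (fun q hq => key' q (Or.inl hq)) (fun q hq => key' q (Or.inr hq))

omit h in
/-- The three non-identity elements of `V`. -/
def vec (z x : G) : Fin 3 → G := ![z, x, x * z]

theorem vec_injective : Function.Injective (vec z x) := by
  have h1 : x * z ≠ x := fun e => h.z_ne (mul_eq_left.1 e)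
  have h2 : x * z ≠ z := fun e => h.x_ne (mul_eq_right.1 e)
  intro i j hij
  fin_cases i <;> fin_cases j <;> simp [vec, h.ne, Ne.symm h.ne, h1, h2, Ne.symm h1, Ne.symm h2] at hij ⊢

theorem mem_range_vec {v : G} : v ∈ Set.range (vec z x) ↔ v ∈ V z x ∧ v ≠ 1 := by
  constructor
  · rintro ⟨i, rfl⟩
    refine ⟨h.mem_V.2 ?_, ?_⟩
    · fin_cases i <;> simp [vec]
    · fin_cases i
      · exact h.z_ne
      · exact h.x_ne
      · intro e
        apply h.ne
        have e' : x * z = 1 := e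
        rwa [mul_eq_one_iff_eq_inv, inv_eq_of_mul_eq_one_right h.zz] at e'
  · rintro ⟨hv, hv1⟩
    rcases h.mem_V.1 hv with e | e | e | e
    · exact absurd e hv1
    · exact ⟨0, e.symm⟩
    · exact ⟨1, e.symm⟩
    · exact ⟨2, e.symm⟩

/-- The action of `N(V)` on the three involutions of `V`. -/
theorem exists_perm :
    ∃ ρ : ↥(normalizer ((V z x : Subgroup G) : Set G)) →* Equiv.Perm (Fin 3),
      ∀ (n : ↥(normalizer ((V z x : Subgroup G) : Set G))) (i : Fin 3), (n : G) * vec z x i * (n : G)⁻¹ = vec z x (ρ n i) := by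
  set N := normalizer ((V z x : Subgroup G) : Set G)
  have hex : ∀ (n : ↥N) (i : Fin 3), ∃ j, (n : G) * vec z x i * (n : G)⁻¹ = vec z x j := by
    intro n i
    obtain ⟨hv, hv1⟩ := h.mem_range_vec.1 ⟨i, rfl⟩
    obtain ⟨j, hj⟩ := h.mem_range_vec.2
      ⟨(mem_normalizer_iff.1 n.2 _).1 hv, fun e => hv1 (conj_eq_one_iff.1 e)⟩
    exact ⟨j, hj.symm⟩
  choose f hf using hex
  have hmul : ∀ a b i, f (a * b) i = f a (f b i) := fun a b i => h.vec_injective (by
    rw [← hf, ← hf, ← hf]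
    simp [mul_assoc])
  have hone : ∀ i, f 1 i = i := fun i => h.vec_injective (by rw [← hf]; simp)
  refine ⟨MonoidHom.mk' (fun n => ⟨f n, f n⁻¹, fun i => by
      rw [← hmul, inv_mul_cancel, hone], fun i => by rw [← hmul, mul_inv_cancel, hone]⟩) ?_, hf⟩
  exact fun a b => Equiv.ext fun i => hmul a b i

theorem mem_K_of_fix {n : G} (h1 : n * z * n⁻¹ = z) (h2 : n * x * n⁻¹ = x) : n ∈ K z x :=
  mem_K.2 ⟨mul_inv_eq_iff_eq_mul.1 h1, mul_inv_eq_iff_eq_mul.1 h2⟩

/-- Structure of `X = ⟨Q, Q'⟩` and of `N(V)`. -/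
theorem structureX (hQ' : ∃ g, Q' = Q.map (MulAut.conj g).toMonoidHom ∧ g * z * g⁻¹ = x) :
    R Q Q' z x = (Q ⊔ Q') ⊓ K z x ∧
    normalizer ((V z x : Subgroup G) : Set G) = (Q ⊔ Q') ⊔ K z x ∧
    ∃ hn : ((R Q Q' z x).subgroupOf (Q ⊔ Q')).Normal,
      Nonempty (↥(Q ⊔ Q') ⧸ (R Q Q' z x).subgroupOf (Q ⊔ Q') ≃* Equiv.Perm (Fin 3)) := by
  obtain ⟨ρ, hρ⟩ := h.exists_perm
  obtain ⟨y, hy, hyx⟩ := h.exists_mover
  obtain ⟨w, hw, hwz⟩ := h.exists_mover'
  have hXN := h.X_le_normalizer_V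
  have hyX : y ∈ Q ⊔ Q' := mem_sup_left hy
  have hwX : w ∈ Q ⊔ Q' := mem_sup_right hw
  let ρX : ↥(Q ⊔ Q') →* Equiv.Perm (Fin 3) := ρ.comp (inclusion hXN)
  have hρX : ∀ (u : ↥(Q ⊔ Q')) i, (u : G) * vec z x i * (u : G)⁻¹ = vec z x (ρX u i) :=
    fun u i => hρ (inclusion hXN u) i
  have hyz : y * z * y⁻¹ = z := by
    rw [mem_centralizer_singleton_iff.1 (h.le hy), mul_inv_cancel_right]
  have hwx : w * x * w⁻¹ = x := by
    rw [mem_centralizer_singleton_iff.1 (h.le' hw), mul_inv_cancel_right]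
  have hy' : ρX ⟨y, hyX⟩ = Equiv.swap 1 2 := by
    refine Equiv.ext fun i => h.vec_injective ?_
    rw [← hρX]
    fin_cases i
    · exact hyz
    · exact hyx
    · show y * (x * z) * y⁻¹ = x
      rw [show y * (x * z) * y⁻¹ = y * x * y⁻¹ * (y * z * y⁻¹) by group, hyx, hyz, mul_assoc,
        h.zz, mul_one]
  have hw' : ρX ⟨w, hwX⟩ = Equiv.swap 0 2 := by
    refine Equiv.ext fun i => h.vec_injective ?_
    rw [← hρX]
    fin_cases i
    · exact hwz
    · exact hwx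
    · show w * (x * z) * w⁻¹ = z
      rw [show w * (x * z) * w⁻¹ = w * x * w⁻¹ * (w * z * w⁻¹) by group, hwx, hwz, ← mul_assoc,
        h.xx, one_mul]
  set a : Equiv.Perm (Fin 3) := Equiv.swap 1 2 with ha
  set b : Equiv.Perm (Fin 3) := Equiv.swap 0 2 with hb
  have hsurj : Function.Surjective ρX := by
    intro σ
    have : ∀ σ : Equiv.Perm (Fin 3), σ = 1 ∨ σ = a ∨ σ = b ∨ σ = a * b ∨ σ = b * a ∨
        σ = a * b * a := by rw [ha, hb]; decide
    rcases this σ with rfl | rfl | rfl | rfl | rfl | rfl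
    · exact ⟨1, map_one _⟩
    · exact ⟨⟨y, hyX⟩, hy'⟩
    · exact ⟨⟨w, hwX⟩, hw'⟩
    · exact ⟨⟨y, hyX⟩ * ⟨w, hwX⟩, by rw [map_mul, hy', hw']⟩
    · exact ⟨⟨w, hwX⟩ * ⟨y, hyX⟩, by rw [map_mul, hy', hw']⟩
    · exact ⟨⟨y, hyX⟩ * ⟨w, hwX⟩ * ⟨y, hyX⟩, by rw [map_mul, map_mul, hy', hw']⟩
  have hfixK : ∀ u : ↥(Q ⊔ Q'), ρX u = 1 ↔ (u : G) ∈ K z x := by
    intro u
    constructor
    · intro hu
      have h0 := hρX u 0
      have h1 := hρX u 1
      rw [hu] at h0 h1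
      exact h.mem_K_of_fix h0 h1
    · intro hu
      refine Equiv.ext fun i => h.vec_injective ?_
      rw [← hρX, Equiv.Perm.one_apply]
      have hv : vec z x i ∈ V z x := (h.mem_range_vec.1 ⟨i, rfl⟩).1
      have hc : vec z x i * (u : G) = (u : G) * vec z x i := mem_centralizer_iff.1 hu _ hv
      rw [← hc, mul_inv_cancel_right]
  have hRK : R Q Q' z x = (Q ⊔ Q') ⊓ K z x := by
    refine le_antisymm (le_inf h.R_le_X h.R_le_K) ?_
    rintro u ⟨hu, huK⟩
    obtain ⟨c, hc, hcu⟩ := h.cosets hy hyx hw hwz hQ' hu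
    suffices hc1 : c = 1 by rw [hc1, inv_one, one_mul] at hcu; exact hcu
    have hcX : c ∈ Q ⊔ Q' := by
      rcases hc with rfl | rfl | rfl | rfl | rfl | rfl
      exacts [one_mem _, hyX, hwX, mul_mem hyX hwX, mul_mem hwX hyX,
        mul_mem (mul_mem hyX hwX) hyX]
    have hcK : c ∈ K z x := by
      have := (K z x).mul_mem huK ((K z x).inv_mem (h.R_le_K hcu))
      simpa [mul_assoc] using this
    have hρc := (hfixK ⟨c, hcX⟩).2 hcK
    have hne : a ≠ 1 ∧ b ≠ 1 ∧ a * b ≠ 1 ∧ b * a ≠ 1 ∧ a * b * a ≠ 1 := by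
      rw [ha, hb]; decide
    obtain ⟨n1, n2, n3, n4, n5⟩ := hne
    rcases hc with rfl | rfl | rfl | rfl | rfl | rfl
    · rfl
    · exact absurd (hy'.symm.trans hρc) n1
    · exact absurd (hw'.symm.trans hρc) n2
    · refine absurd ?_ n3
      rw [← hy', ← hw', ← map_mul]; exact hρc
    · refine absurd ?_ n4
      rw [← hy', ← hw', ← map_mul]; exact hρc
    · refine absurd ?_ n5
      rw [← hy', ← hw', ← map_mul, ← map_mul]; exact hρc
  have hnorm : ((R Q Q' z x).subgroupOf (Q ⊔ Q')).Normal :=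
    normal_subgroupOf_of_le_normalizer h.X_le_normalizer
  refine ⟨hRK, ?_, hnorm, ?_⟩
  · refine le_antisymm (fun n hn => ?_) (sup_le hXN ?_)
    · obtain ⟨u, hu⟩ := hsurj (ρ ⟨n, hn⟩)
      have hk : ρ ((inclusion hXN u)⁻¹ * ⟨n, hn⟩) = 1 := by
        rw [map_mul, map_inv, inv_mul_eq_one]; exact hu
      have h0 := hρ ((inclusion hXN u)⁻¹ * ⟨n, hn⟩) 0
      have h1 := hρ ((inclusion hXN u)⁻¹ * ⟨n, hn⟩) 1
      rw [hk] at h0 h1
      have := mul_mem_sup (S := Q ⊔ Q') (T := K z x) u.2 (h.mem_K_of_fix h0 h1)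
      simpa using this
    · exact centralizer_le_normalizer _
  · refine ⟨(QuotientGroup.quotientMulEquivOfEq ?_).trans
      (QuotientGroup.quotientKerEquivOfSurjective ρX hsurj)⟩
    ext u
    rw [MonoidHom.mem_ker, hfixK, mem_subgroupOf, hRK]
    exact ⟨fun hu => hu.2, fun hu => ⟨u.2, hu⟩⟩

theorem pCore_eq (hQ' : ∃ g, Q' = Q.map (MulAut.conj g).toMonoidHom ∧ g * z * g⁻¹ = x) :
    R Q Q' z x = (pCore 2 ↥(Q ⊔ Q')).map (Q ⊔ Q').subtype := by
  have : Fact (Nat.Prime 2) := ⟨Nat.prime_two⟩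
  obtain ⟨-, -, hn, ⟨e⟩⟩ := h.structureX hQ'
  set M := (R Q Q' z x).subgroupOf (Q ⊔ Q') with hM
  have hMp : IsPGroup 2 ↥M :=
    IsPGroup.comap_of_injective h.R_isPGroup (Q ⊔ Q').subtype (Q ⊔ Q').subtype_injective
  have hle : M ≤ pCore 2 ↥(Q ⊔ Q') := Core.le_pCore hMp
  refine le_antisymm ?_ ?_
  · intro r hr
    exact ⟨⟨r, h.R_le_X hr⟩, hle hr, rfl⟩
  let f : ↥(Q ⊔ Q') →* Equiv.Perm (Fin 3) := e.toMonoidHom.comp (QuotientGroup.mk' M)
  have hf : Function.Surjective f := e.surjective.comp (QuotientGroup.mk'_surjective M)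
  set D := (pCore 2 ↥(Q ⊔ Q')).map f with hD
  have hDn : D.Normal := Subgroup.Normal.map inferInstance f hf
  have hDp : IsPGroup 2 ↥D := Core.pCore_isPGroup.map f
  have hD1 : D = ⊥ := by
    obtain ⟨k, hk⟩ := IsPGroup.iff_card.1 hDp
    have h6 : 2 ^ k ∣ 6 := by
      have h1 := D.card_subgroup_dvd_card
      rw [hk, Nat.card_perm, Nat.card_fin] at h1
      exact h1
    have hk1 : k ≤ 1 := by
      by_contra hk1
      have h4 : (4 : ℕ) ∣ 6 := (pow_dvd_pow 2 (show 2 ≤ k by omega)).trans h6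
      omega
    by_contra hne
    have hk2 : k = 1 := by
      rcases Nat.eq_zero_or_pos k with e0 | e0
      · exact absurd (card_eq_one.1 (by rw [hk, e0, pow_zero])) hne
      · omega
    rw [hk2, pow_one] at hk
    obtain ⟨d, hd1, hdu⟩ := (Nat.card_eq_two_iff' (1 : ↥D)).1 hk
    have hfix : ∀ σ : Equiv.Perm (Fin 3), σ * (d : Equiv.Perm (Fin 3)) * σ⁻¹ = d := fun σ => by
      by_cases he : (⟨_, hDn.conj_mem _ d.2 σ⟩ : ↥D) = 1
      · exact absurd (Subtype.ext (conj_eq_one_iff.1 (congrArg Subtype.val he))) hd1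
      · exact congrArg Subtype.val (hdu _ he)
    have key : ∀ d : Equiv.Perm (Fin 3), (∀ σ : Equiv.Perm (Fin 3), σ * d * σ⁻¹ = d) → d = 1 := by
      decide
    exact hd1 (Subtype.ext (key _ hfix))
  rintro _ ⟨u, hu, rfl⟩
  have hu1 : f u ∈ D := ⟨u, hu, rfl⟩
  rw [hD1, mem_bot] at hu1
  have : QuotientGroup.mk' M u = 1 := e.injective (hu1.trans (map_one e).symm)
  exact (QuotientGroup.eq_one_iff u).1 this

theorem E_le : Q ⊓ Q' ≤ R Q Q' z x := fun _ he =>
  mem_sup_right ⟨he.1, h.le' he.2⟩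

theorem inter_eq :
    (Q' ⊓ centralizer ({z} : Set G)) ⊓ (Q ⊓ centralizer ({x} : Set G)) = Q ⊓ Q' :=
  le_antisymm (fun _ he => ⟨he.2.1, he.1.1⟩) fun _ he =>
    ⟨⟨he.2, h.le he.1⟩, ⟨he.1, h.le' he.2⟩⟩

theorem one_of_both {c : G} (h1 : c = 1 ∨ c = z) (h2 : c = 1 ∨ c = x) : c = 1 := by
  rcases h1 with e | e
  · exact e
  · rcases h2 with e' | e'
    · exact e'
    · exact absurd (e'.symm.trans e) h.ne

theorem elem_abelian : IsElementaryAbelian 2 (Q ⊓ Q') := by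
  refine ⟨⟨⟨fun a b => Subtype.ext ?_⟩⟩, fun a ha => ?_⟩
  · exact commutatorElement_eq_one_iff_mul_comm.1
      (h.one_of_both (h.comm_cases a.2.1 b.2.1) (h.comm_cases' a.2.2 b.2.2))
  · rw [sq]
    exact h.one_of_both (h.sq_cases ha.1) (h.sq_cases' ha.2)

theorem comm_XE : ⁅Q ⊔ Q', Q ⊓ Q'⁆ ≤ V z x := by
  rw [commutator_le]
  intro u hu e he
  have hN := h.X_le_normalizer_V
  let S : Subgroup G :=
    { carrier := {u | u ∈ Q ⊔ Q' ∧ ∀ e ∈ Q ⊓ Q', u * e * u⁻¹ * e⁻¹ ∈ V z x}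
      one_mem' := ⟨one_mem _, fun k _ => by simp⟩
      mul_mem' := by
        rintro a b ⟨ha, ha'⟩ ⟨hb, hb'⟩
        refine ⟨mul_mem ha hb, fun k hk => ?_⟩
        rw [show a * b * k * (a * b)⁻¹ * k⁻¹
          = a * (b * k * b⁻¹ * k⁻¹) * a⁻¹ * (a * k * a⁻¹ * k⁻¹) by group]
        exact mul_mem ((mem_normalizer_iff.1 (hN ha) _).1 (hb' k hk)) (ha' k hk)
      inv_mem' := by
        rintro a ⟨ha, ha'⟩
        refine ⟨inv_mem ha, fun k hk => ?_⟩
        rw [show a⁻¹ * k * a⁻¹⁻¹ * k⁻¹ = a⁻¹ * (a * k * a⁻¹ * k⁻¹)⁻¹ * a⁻¹⁻¹ by group]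
        exact (mem_normalizer_iff.1 (hN (inv_mem ha)) _).1 (inv_mem (ha' k hk)) }
  have hz : z ∈ V z x := subset_closure (Or.inl rfl)
  have hx : x ∈ V z x := subset_closure (Or.inr rfl)
  have : Q ⊔ Q' ≤ S := sup_le
    (fun q hq => ⟨mem_sup_left hq, fun k hk => by
      rcases h.comm_cases hq hk.1 with e | e <;> rw [e]
      exacts [one_mem _, hz]⟩)
    (fun q hq => ⟨mem_sup_right hq, fun k hk => by
      rcases h.comm_cases' hq hk.2 with e | e <;> rw [e]
      exacts [one_mem _, hx]⟩)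
  exact (this hu).2 e he

/-- `R / E` is elementary abelian. -/
theorem R_mod_E {r s : G} (hr : r ∈ R Q Q' z x) (hs : s ∈ R Q Q' z x) :
    r * s * r⁻¹ * s⁻¹ ∈ Q ⊓ Q' ∧ r ^ 2 ∈ Q ⊓ Q' := by
  set E := Q ⊓ Q' with hE
  have hn : ∀ k ∈ K z x, ∀ e ∈ E, k * e * k⁻¹ ∈ E := fun k hk e he =>
    ⟨(mem_normalizer_iff.1 (h.nK k hk).1 e).1 he.1, (mem_normalizer_iff.1 (h.nK k hk).2 e).1 he.2⟩
  have hzE : z ∈ E := ⟨h.mem, h.memz⟩
  have hxE : x ∈ E := ⟨h.memx, h.mem'⟩
  have hgen : ∀ {a b : G}, (a ∈ Q' ⊓ centralizer ({z} : Set G) ∨ a ∈ Q ⊓ centralizer ({x} : Set G)) →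
      (b ∈ Q' ⊓ centralizer ({z} : Set G) ∨ b ∈ Q ⊓ centralizer ({x} : Set G)) →
      a * b * a⁻¹ * b⁻¹ ∈ E := by
    intro a b ha hb
    rcases ha with ha | ha <;> rcases hb with hb | hb
    · rcases h.comm_cases' ha.1 hb.1 with e | e <;> rw [e]
      exacts [one_mem _, hxE]
    · have hna := h.nK a (h.P'_le_K ha)
      have hnb := h.nK b (h.P_le_K hb)
      refine ⟨Q.mul_mem ((mem_normalizer_iff.1 hna.1 b).1 hb.1) (Q.inv_mem hb.1), ?_⟩
      rw [mul_assoc a, mul_assoc a]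
      exact Q'.mul_mem ha.1 ((mem_normalizer_iff.1 hnb.2 a⁻¹).1 (Q'.inv_mem ha.1))
    · have hna := h.nK a (h.P_le_K ha)
      have hnb := h.nK b (h.P'_le_K hb)
      refine ⟨?_, Q'.mul_mem ((mem_normalizer_iff.1 hna.2 b).1 hb.1) (Q'.inv_mem hb.1)⟩
      rw [mul_assoc a, mul_assoc a]
      exact Q.mul_mem ha.1 ((mem_normalizer_iff.1 hnb.1 a⁻¹).1 (Q.inv_mem ha.1))
    · rcases h.comm_cases ha.1 hb.1 with e | e <;> rw [e]
      exacts [one_mem _, hzE]
  have hR : R Q Q' z x = closure (((Q' ⊓ centralizer ({z} : Set G) : Subgroup G) : Set G) ∪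
      (Q ⊓ centralizer ({x} : Set G) : Subgroup G)) := by
    rw [Subgroup.closure_union, Subgroup.closure_eq, Subgroup.closure_eq]; rfl
  have hcomm : ∀ a ∈ R Q Q' z x, ∀ b ∈ R Q Q' z x, a * b * a⁻¹ * b⁻¹ ∈ E := by
    have h1 : ∀ a, (a ∈ Q' ⊓ centralizer ({z} : Set G) ∨ a ∈ Q ⊓ centralizer ({x} : Set G)) →
        ∀ b ∈ R Q Q' z x, a * b * a⁻¹ * b⁻¹ ∈ E := by
      intro a ha b hb
      rw [hR] at hb
      induction hb using closure_induction with
      | mem b hb => exact hgen ha hb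
      | one => simp
      | mul b c hb _ ihb ihc =>
        rw [← hR] at hb
        rw [show a * (b * c) * a⁻¹ * (b * c)⁻¹
          = a * b * a⁻¹ * b⁻¹ * (b * (a * c * a⁻¹ * c⁻¹) * b⁻¹) by group]
        exact mul_mem ihb (hn b (h.R_le_K hb) _ ihc)
      | inv b hb ihb =>
        rw [← hR] at hb
        rw [show a * b⁻¹ * a⁻¹ * b⁻¹⁻¹ = b⁻¹ * (a * b * a⁻¹ * b⁻¹)⁻¹ * b⁻¹⁻¹ by group]
        exact hn b⁻¹ ((K z x).inv_mem (h.R_le_K hb)) _ (inv_mem ihb)
    intro a ha b hb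
    rw [hR] at ha
    induction ha using closure_induction with
    | mem a ha => exact h1 a ha b hb
    | one => simp
    | mul a c ha _ iha ihc =>
      rw [← hR] at ha
      rw [show a * c * b * (a * c)⁻¹ * b⁻¹
        = a * (c * b * c⁻¹ * b⁻¹) * a⁻¹ * (a * b * a⁻¹ * b⁻¹) by group]
      exact mul_mem (hn a (h.R_le_K ha) _ ihc) iha
    | inv a ha iha =>
      rw [← hR] at ha
      rw [show a⁻¹ * b * a⁻¹⁻¹ * b⁻¹ = a⁻¹ * (a * b * a⁻¹ * b⁻¹)⁻¹ * a⁻¹⁻¹ by group]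
      exact hn a⁻¹ ((K z x).inv_mem (h.R_le_K ha)) _ (inv_mem iha)
  refine ⟨hcomm r hr s hs, ?_⟩
  rw [hR] at hr
  induction hr using closure_induction with
  | mem a ha =>
    rw [sq]
    rcases ha with ha | ha
    · rcases h.sq_cases' (SetLike.mem_coe.1 ha).1 with e | e <;> rw [e]
      exacts [one_mem _, hxE]
    · rcases h.sq_cases (SetLike.mem_coe.1 ha).1 with e | e <;> rw [e]
      exacts [one_mem _, hzE]
  | one => simp
  | mul a b ha hb iha ihb =>
    rw [← hR] at ha hb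
    rw [sq] at iha ihb ⊢
    rw [show a * b * (a * b) = a * (b * a * b⁻¹ * a⁻¹) * a⁻¹ * (a * a) * (b * b) by group]
    exact mul_mem (mul_mem (hn a (h.R_le_K ha) _ (hcomm b hb a ha)) iha) ihb
  | inv a _ iha => rw [inv_pow]; exact inv_mem iha

theorem center_R : (center ↥(R Q Q' z x)).map (R Q Q' z x).subtype = V z x := by
  have : Fact (Nat.Prime 2) := ⟨Nat.prime_two⟩
  refine le_antisymm ?_ fun v hv => ?_
  · rintro _ ⟨c, hc, rfl⟩
    obtain ⟨hcR, hcz⟩ : (c : G) ∈ R Q Q' z x ∧ (c : G) ∈ K z x := ⟨c.2, h.R_le_K c.2⟩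
    have hcP : ∀ p ∈ Q ⊓ centralizer ({x} : Set G), Commute (c : G) p := fun p hp =>
      (congrArg Subtype.val (mem_center_iff.1 hc ⟨p, mem_sup_right hp⟩)).symm
    obtain ⟨y, hy, hyx⟩ := h.exists_mover
    obtain ⟨hkz, hkx⟩ := mem_K.1 hcz
    set v := y⁻¹ * ((c : G) * y * (c : G)⁻¹) with hv
    have hvQ : v ∈ Q := Q.mul_mem (Q.inv_mem hy) ((mem_normalizer_iff.1 (h.nK _ hcz).1 y).1 hy)
    have hvp : ∀ p ∈ Q, Commute p x → Commute v p := by
      intro p hp hpx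
      have hpP : p ∈ Q ⊓ centralizer ({x} : Set G) := ⟨hp, mem_centralizer_singleton_iff.2 hpx.eq⟩
      rcases h.comm_cases hy hp with e | e
      · have hyp : Commute y p := commutatorElement_eq_one_iff_mul_comm.1 e
        have h1 : Commute ((c : G) * y * (c : G)⁻¹) p := by
          have := (Commute.conj_iff (c : G)).2 hyp
          rwa [show (c : G) * p * (c : G)⁻¹ = p by rw [(hcP p hpP).eq, mul_inv_cancel_right]] at this
        exact hyp.inv_left.mul_left h1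
      · have e1 : y * p * y⁻¹ = z * p := mul_inv_eq_iff_eq_mul.1 e
        have e2 : (c : G) * y * (c : G)⁻¹ * p * ((c : G) * y * (c : G)⁻¹)⁻¹ = z * p := by
          calc _ = (c : G) * (y * ((c : G)⁻¹ * p * c) * y⁻¹) * (c : G)⁻¹ := by group
            _ = (c : G) * (z * p) * (c : G)⁻¹ := by
              rw [show (c : G)⁻¹ * p * c = p by rw [mul_assoc, ← (hcP p hpP).eq, inv_mul_cancel_left],
                e1]
            _ = z * p := by
              rw [(hkz.mul_right (hcP p hpP)).eq, mul_inv_cancel_right]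
        refine mul_inv_eq_iff_eq_mul.1 ?_
        calc v * p * v⁻¹ = y⁻¹ * ((c : G) * y * (c : G)⁻¹ * p * ((c : G) * y * (c : G)⁻¹)⁻¹) * y := by
              rw [hv]; group
          _ = y⁻¹ * (y * p * y⁻¹) * y := by rw [e2, e1]
          _ = p := by group
    have hvH : v ∈ V z x := by
      have hzH : center ↥Q ≤ (V z x).subgroupOf Q := by
        intro d hd
        rcases h.ccases d.2 fun q hq =>
          congrArg Subtype.val (mem_center_iff.1 hd ⟨q, hq⟩) with e | e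
        · exact mem_subgroupOf.2 (by rw [e]; exact one_mem _)
        · exact mem_subgroupOf.2 (by rw [e]; exact h.mem_V.2 (Or.inr (Or.inl rfl)))
      refine mem_subgroupOf.1 (ExtraPair.centralizer_centralizer_le h.es hzH (x := ⟨v, hvQ⟩)
        (mem_centralizer_iff.2 fun p hp => Subtype.ext ?_))
      exact (hvp p p.2 (congrArg Subtype.val (mem_centralizer_iff.1 hp ⟨x, h.memx⟩
        (show x ∈ V z x from h.mem_V.2 (Or.inr (Or.inr (Or.inl rfl)))))).symm).eq.symm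
    have hcy : (c : G) * y * (c : G)⁻¹ = y * v := by rw [hv, mul_inv_cancel_left]
    have hyz : Commute y z := mem_centralizer_singleton_iff.1 (h.le hy)
    have hyx' : y * x = x * z * y := mul_inv_eq_iff_eq_mul.1 hyx
    -- an element centralising `Q` up to the centre lies in `V`
    have fin : ∀ d : G, Commute d y → (∀ p ∈ Q ⊓ centralizer ({x} : Set G), Commute d p) →
        d ∈ V z x := by
      intro d hdy hdP
      have hd : d ∈ zpowers z := h.cent (mem_centralizer_iff.2 fun q hq => by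
        rcases h.conj_x hq with e | e
        · exact (hdP q ⟨hq, mem_centralizer_singleton_iff.2 (mul_inv_eq_iff_eq_mul.1 e)⟩).eq.symm
        · have hm : y⁻¹ * q ∈ Q ⊓ centralizer ({x} : Set G) := by
            refine ⟨Q.mul_mem (Q.inv_mem hy) hq, mem_centralizer_singleton_iff.2 ?_⟩
            calc y⁻¹ * q * x = y⁻¹ * (q * x * q⁻¹) * q := by group
              _ = x * (y⁻¹ * q) := by rw [e, ← hyx]; group
          have := hdy.mul_right (hdP _ hm)
          rw [mul_inv_cancel_left] at this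
          exact this.eq.symm)
      exact zpowers_le.2 (h.mem_V.2 (Or.inr (Or.inl rfl))) hd
    have hxV : x ∈ V z x := h.mem_V.2 (Or.inr (Or.inr (Or.inl rfl)))
    have hsq : ∀ v', (c : G) * y * (c : G)⁻¹ = y * v' → y * v' * (y * v') = y * y := by
      intro v' e
      rw [← e, conjm]
      rcases h.sq_cases hy with e' | e' <;> rw [e']
      · simp
      · rw [hkz.eq, mul_inv_cancel_right]
    rcases h.mem_V.1 hvH with e | e | e | e <;> rw [e] at hcy
    · exact fin c (mul_inv_eq_iff_eq_mul.1 (by rw [hcy, mul_one])) hcP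
    · have hxc : Commute (x * (c : G)) y := by
        refine mul_inv_eq_iff_eq_mul.1 ?_
        calc x * (c : G) * y * (x * (c : G))⁻¹ = x * ((c : G) * y * (c : G)⁻¹) * x⁻¹ := by group
          _ = y := by
            rw [hcy, inv_eq_of_mul_eq_one_right h.xx, hyz.eq, ← mul_assoc x z y, ← hyx', mul_assoc,
              h.xx, mul_one]
      have h1 := fin _ hxc fun p hp =>
        (show Commute x p from (mem_centralizer_singleton_iff.1 hp.2).symm).mul_left (hcP p hp)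
      have := mul_mem (inv_mem hxV) h1
      rwa [inv_mul_cancel_left] at this
    · exfalso
      have h1 := hsq x hcy
      have h2 : x * y * x = y * z := by
        calc x * y * x = x * x * z * y := by rw [mul_assoc x y x, hyx']; group
          _ = y * z := by rw [h.xx, one_mul, hyz.eq]
      rw [show y * x * (y * x) = y * (x * y * x) by group, h2, ← mul_assoc, mul_eq_left] at h1
      exact h.z_ne h1
    · exfalso
      have h1 := hsq (x * z) hcy
      have e3 : y * (x * z) = x * y := by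
        rw [← mul_assoc, hyx', mul_assoc (x * z) y z, hyz.eq, ← mul_assoc, mul_assoc x z z, h.zz,
          mul_one]
      have e4 : x * y * (x * y) = z * (y * y) := by
        calc x * y * (x * y) = x * (y * x) * y := by group
          _ = x * x * z * (y * y) := by rw [hyx']; group
          _ = z * (y * y) := by rw [h.xx, one_mul]
      rw [e3, e4, mul_eq_right] at h1
      exact h.z_ne h1
  · refine ⟨⟨v, h.V_le_R hv⟩, mem_center_iff.2 fun r => Subtype.ext ?_, rfl⟩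
    exact (mem_centralizer_iff.1 (h.R_le_K r.2) v hv).symm

theorem E_le_second : Q ⊓ Q' ≤
    (Subgroup.upperCentralSeries ↥(R Q Q' z x) 2).map (R Q Q' z x).subtype ∧
    Subgroup.upperCentralSeries ↥(R Q Q' z x) 3 = ⊤ := by
  have hc := h.center_R
  have h2 : ∀ e : ↥(R Q Q' z x), (e : G) ∈ Q ⊓ Q' →
      e ∈ Subgroup.upperCentralSeries ↥(R Q Q' z x) 2 := by
    intro e he
    rw [show (2 : ℕ) = 1 + 1 from rfl, Subgroup.mem_upperCentralSeries_succ_iff]
    intro r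
    rw [Subgroup.upperCentralSeries_one]
    have h1 : (r : G) * (e : G) * (r : G)⁻¹ * (e : G)⁻¹ ∈ V z x :=
      h.comm_XE (commutator_mem_commutator (h.R_le_X r.2) he)
    have h1' := inv_mem h1
    rw [← hc] at h1'
    obtain ⟨c, hcc, hce⟩ := h1'
    have : e * r * e⁻¹ * r⁻¹ = c := Subtype.ext (by
      show (e : G) * r * (e : G)⁻¹ * (r : G)⁻¹ = c
      exact (show (e : G) * r * (e : G)⁻¹ * (r : G)⁻¹
        = ((r : G) * (e : G) * (r : G)⁻¹ * (e : G)⁻¹)⁻¹ by group).trans hce.symm)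
    rw [commutatorElement_def, this]
    exact hcc
  refine ⟨fun e he => ⟨⟨e, h.E_le he⟩, h2 _ he, rfl⟩, eq_top_iff.2 fun a _ => ?_⟩
  rw [show (3 : ℕ) = 2 + 1 from rfl, Subgroup.mem_upperCentralSeries_succ_iff]
  exact fun b => h2 _ (h.R_mod_E a.2 b.2).1

end Pair

/-- The pair attached to a large extraspecial subgroup and a conjugate of `z` inside it. -/
theorem pair_of_large {Q : Subgroup G} (hE : IsExtraspecial 2 ↥Q)
    (hC : centralizer (Q : Set G) = (center ↥Q).map Q.subtype)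
    (hN : centralizer (((center ↥Q).map Q.subtype : Subgroup G) : Set G) ≤ normalizer (Q : Set G))
    {z : G} (hz : (center ↥Q).map Q.subtype = zpowers z) (hz2 : orderOf z = 2)
    (hcard : 32 ≤ Nat.card ↥Q) {g : G} (hg : g ∉ centralizer ({z} : Set G))
    (hgQ : g * z * g⁻¹ ∈ Q) :
    Pair Q (Q.map (MulAut.conj g).toMonoidHom) z (g * z * g⁻¹) := by
  obtain ⟨hn, S⟩ := nsetting hE hC hN hz2 hz
  have hFz := conjFam_self hn (Q := Q) (z := z)
  have hFg := conjFam_eq hn (Q := Q) (z := z) g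
  have hne : g * z * g⁻¹ ≠ z := fun e =>
    hg (mem_centralizer_singleton_iff.2 (mul_inv_eq_iff_eq_mul.1 e))
  have hzQ : z ∈ Q := hFz ▸ S.mem_self
  have hxx : g * z * g⁻¹ * (g * z * g⁻¹) = 1 := by
    rw [conjm, S.sq_one, mul_one, mul_inv_cancel]
  have hxF : g * z * g⁻¹ ∈ conjFam Q z z := by rw [hFz]; exact hgQ
  have hzx : z ∈ conjFam Q z (g * z * g⁻¹) :=
    S.symm hxF fun h => (S.not_comm_of_card hxF hxx (by rw [hFz]; exact hcard) h).elim
  refine ⟨hE, extraspecial_congr (Q.equivMapOfInjective _ (MulAut.conj g).injective) hE, ?_, ?_, hn, ?_, ?_, hz2,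
    ((MulAut.conj g).orderOf_eq z).trans hz2, hzQ, ⟨z, hzQ, rfl⟩, hgQ, hFg ▸ hzx, hne⟩
  · exact fun q hq => S.le (hFz.symm ▸ hq)
  · rintro _ ⟨q, hq, rfl⟩
    exact S.le_conj (hFz.symm ▸ hq)
  · intro k hk
    rw [mem_normalizer_iff]
    intro a
    have key : ∀ j ∈ centralizer ({g * z * g⁻¹} : Set G), ∀ b ∈ Q.map (MulAut.conj g).toMonoidHom,
        j * b * j⁻¹ ∈ Q.map (MulAut.conj g).toMonoidHom := by
      intro j hj b hb
      rw [← hFg] at hb ⊢
      exact S.nrm hj hb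
    exact ⟨key k hk a, fun ha => by simpa [mul_assoc] using key k⁻¹ (inv_mem hk) _ ha⟩
  · rw [hC, hz]

end Cfsg.Agent.LargeExtra
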