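import Cfsg.Prelude.Def_MonsterType
import Cfsg.Agent.LargeExtra.Singular

/-!
# The conjugates of a self-centralising extraspecial normal subgroup of `C(Z(Q))`
-/

set_option autoImplicit false

open Cfsg Subgroup
open scoped commutatorElement

namespace Cfsg.Agent.LargeExtra

variable {G : Type*} [Group G]

/-- The conjugate of `Q` attached to the conjugate `x` of `z`. -/
def conjFam (Q : Subgroup G) (z x : G) : Subgroup G :=
  ⨆ g ∈ {g : G | g * z * g⁻¹ = x}, Q.map (MulAut.conj g).toMonoidHom

theorem map_conj_map (Q : Subgroup G) (a b : G) :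
    (Q.map (MulAut.conj b).toMonoidHom).map (MulAut.conj a).toMonoidHom =
      Q.map (MulAut.conj (a * b)).toMonoidHom := by
  rw [map_map]
  congr 1
  ext q
  simp [mul_assoc]

theorem conjFam_conj_mem (Q : Subgroup G) {z g x c : G} (hc : c ∈ conjFam Q z x) :
    g * c * g⁻¹ ∈ conjFam Q z (g * x * g⁻¹) := by
  have hle : conjFam Q z x ≤ (conjFam Q z (g * x * g⁻¹)).comap (MulAut.conj g).toMonoidHom := by
    refine iSup₂_le fun a ha => ?_
    rw [← map_le_iff_le_comap, map_conj_map]
    refine le_iSup₂_of_le (g * a) ?_ le_rfl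
    show g * a * z * (g * a)⁻¹ = g * x * g⁻¹
    rw [← (ha : a * z * a⁻¹ = x)]
    group
  exact hle hc

theorem conjFam_eq {Q : Subgroup G} {z : G}
    (hn : centralizer ({z} : Set G) ≤ normalizer (Q : Set G)) (g : G) :
    conjFam Q z (g * z * g⁻¹) = Q.map (MulAut.conj g).toMonoidHom := by
  refine le_antisymm (iSup₂_le fun a ha => ?_) (le_iSup₂_of_le g rfl le_rfl)
  have hc : g⁻¹ * a ∈ normalizer (Q : Set G) := hn (by
    rw [mem_centralizer_singleton_iff]
    calc g⁻¹ * a * z = g⁻¹ * (a * z * a⁻¹) * a := by group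
      _ = z * (g⁻¹ * a) := by rw [(ha : a * z * a⁻¹ = g * z * g⁻¹)]; group)
  have := mem_normalizer_iff_map_conj_eq.1 hc
  rw [← mul_inv_cancel_left g a, ← map_conj_map]
  exact (congrArg (Subgroup.map (MulAut.conj g).toMonoidHom) this).le

theorem conjFam_self {Q : Subgroup G} {z : G}
    (hn : centralizer ({z} : Set G) ≤ normalizer (Q : Set G)) : conjFam Q z z = Q := by
  have := conjFam_eq hn (1 : G)
  rw [one_mul, inv_one, mul_one, map_one] at this
  rw [this]
  exact map_id Q

variable [Finite G] {Q : Subgroup G}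

/-- Data of a generator of the centre. -/
theorem exists_generator (hE : IsExtraspecial 2 ↥Q) :
    ∃ z : G, orderOf z = 2 ∧ z ∈ Q ∧ (center ↥Q).map Q.subtype = zpowers z := by
  obtain ⟨a, ha1, -⟩ := Nat.card_eq_two_iff' (1 : ↥(center ↥Q)) |>.1 hE.2
  have : Fact (Nat.Prime 2) := ⟨Nat.prime_two⟩
  have hord : orderOf (a : ↥Q) = 2 :=
    orderOf_eq_prime (Fusion.es_center_pow hE a.2) (fun h => ha1 (Subtype.ext h))
  refine ⟨((a : ↥Q) : G), by rw [Subgroup.orderOf_coe]; exact hord, (a : ↥Q).2, ?_⟩
  exact (congrArg (Subgroup.map Q.subtype)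
    (Fusion.es_center_zpowers hE a.2 (fun h => ha1 (Subtype.ext h))).symm).trans
    (MonoidHom.map_zpowers _ _)

/-- The large setting. -/
theorem nsetting (hE : IsExtraspecial 2 ↥Q)
    (hC : centralizer (Q : Set G) = (center ↥Q).map Q.subtype)
    (hN : centralizer (((center ↥Q).map Q.subtype : Subgroup G) : Set G) ≤ normalizer (Q : Set G))
    {z : G} (hz : orderOf z = 2) (hZ : (center ↥Q).map Q.subtype = zpowers z) :
    centralizer ({z} : Set G) ≤ normalizer (Q : Set G) ∧ NSetting (conjFam Q z) z := by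
  have hn : centralizer ({z} : Set G) ≤ normalizer (Q : Set G) := by
    refine le_trans ?_ hN
    intro h hh
    rw [hZ, mem_centralizer_iff]
    intro c hc
    obtain ⟨k, rfl⟩ := mem_zpowers_iff.1 hc
    exact ((show Commute h z from mem_centralizer_singleton_iff.1 hh).zpow_right k).eq.symm
  have hzZ : z ∈ (center ↥Q).map Q.subtype := hZ ▸ mem_zpowers z
  have hzQ : z ∈ Q := map_subtype_le _ hzZ
  have hself := conjFam_self hn
  refine ⟨hn, hz, ?_, ?_, ?_, ?_, fun hc => conjFam_conj_mem Q hc⟩
  · rw [hself]; exact hzQ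
  · rw [hself]
    intro q hq
    obtain ⟨c, hc, rfl⟩ := hzZ
    exact mem_centralizer_singleton_iff.2 (congrArg Subtype.val (mem_center_iff.1 hc ⟨q, hq⟩))
  · rw [hself]; exact hE
  · rw [hself, hC]; exact map_subtype_le _

namespace NSetting

variable {F : G → Subgroup G} {z : G} (S : NSetting F z)
include S

/-- Width at least two excludes a commutative centraliser of an involution. -/
theorem not_comm_of_card {x : G} (hx : x ∈ F z) (hx2 : x * x = 1) (hcard : 32 ≤ Nat.card ↥(F z))
    (hab : ∀ a ∈ F z, ∀ b ∈ F z, Commute a x → Commute b x → Commute a b) : False := by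
  have : Fact (Nat.Prime 2) := ⟨Nat.prime_two⟩
  let E := F z
  let x' : ↥E := ⟨x, hx⟩
  let P : Subgroup ↥E := centralizer {x'}
  have hzz := S.sq_one
  -- `P` has index at most two
  have hidx : P.index ≤ 2 := by
    let f : ↥E →* ↥(center ↥E) := MonoidHom.mk'
      (fun q => ⟨⁅q, x'⁆, Fusion.es_commutator_mem S.es q x'⟩) fun a b => Subtype.ext
        (Fusion.commutatorElement_mul_left_of_le_center (Fusion.es_commutator_le S.es) a b x')
    have hker : f.ker = P := by
      ext q
      rw [MonoidHom.mem_ker, mem_centralizer_singleton_iff, Subtype.ext_iff]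
      exact commutatorElement_eq_one_iff_mul_comm
    rw [← hker, index_ker, ← S.es.2]
    exact card_le_card_group _
  have hPc : P ≤ centralizer (P : Set ↥E) := by
    intro a ha
    rw [mem_centralizer_iff]
    intro b hb
    exact Subtype.ext (hab b b.2 a a.2
      (congrArg Subtype.val (mem_centralizer_singleton_iff.1 hb))
      (congrArg Subtype.val (mem_centralizer_singleton_iff.1 ha))).eq
  -- the subgroup generated by `z` and `x` contains `P`
  let H : Subgroup ↥E := zpowers x' ⊔ center ↥E
  have hH : P ≤ H := by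
    refine le_trans ?_ (ExtraPair.centralizer_centralizer_le S.es (le_sup_right : center ↥E ≤ H))
    refine hPc.trans (centralizer_le (fun q hq => ?_))
    rw [SetLike.mem_coe, mem_centralizer_singleton_iff]
    exact (mem_centralizer_iff.1 hq x' (le_sup_left (b := center ↥E) (mem_zpowers x'))).symm
  have hx'4 : Nat.card ↥H ≤ 4 := by
    show Nat.card ↥(zpowers x' ⊔ center ↥E) ≤ 4
    have h1 := Core.card_sup_dvd_mul (zpowers x') (center ↥E)
    have h2 : Nat.card ↥(zpowers x') ≤ 2 := by
      rw [Nat.card_zpowers]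
      exact orderOf_le_of_pow_eq_one two_pos (Subtype.ext (by simpa [sq] using hx2))
    have h3 := Nat.le_of_dvd (Nat.mul_pos Nat.card_pos Nat.card_pos) h1
    rw [S.es.2] at h3
    omega
  have h4 : Nat.card ↥P ≤ 4 := (Nat.le_of_dvd Nat.card_pos (card_dvd_of_le hH)).trans hx'4
  have := P.card_mul_index
  have h5 : Nat.card ↥E ≤ 4 * 2 := this ▸ Nat.mul_le_mul h4 hidx
  have h6 : 32 ≤ Nat.card ↥E := hcard
  omega

end NSetting

end Cfsg.Agent.LargeExtra
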